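import Cfsg.Agent.Solubilizer.Even
import Cfsg.Agent.SL2C.ClassProducts

/-!
Orders of the solubilizers in SL(2,2^p).
-/

set_option autoImplicit false

namespace CfsgLib.Solubilizer

open CfsgLib.Dickson CfsgLib.SL2C Matrix

/-- The number of elements generating a solvable subgroup with a given one. -/
noncomputable def num {G : Type*} [Group G] (x : G) : ℕ :=
  Nat.card {y : G // Group.IsSolvable ↥(Subgroup.closure ({x, y} : Set G))}

theorem num_map {G H : Type*} [Group G] [Group H] (φ : G ≃* H) (x : G) : num (φ x) = num x := by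
  refine (Nat.card_congr (Equiv.subtypeEquiv φ.toEquiv fun y => ?_)).symm
  have h : (Subgroup.closure ({x, y} : Set G)).map φ.toMonoidHom = Subgroup.closure ({φ x, φ y} : Set H) := by
    rw [MonoidHom.map_closure, Set.image_pair]
    rfl
  set A := Subgroup.closure ({x, y} : Set G)
  set f := Subgroup.equivMapOfInjective A φ.toMonoidHom φ.injective
  show Group.IsSolvable A ↔ Group.IsSolvable (Subgroup.closure ({φ x, φ y} : Set H))
  rw [← h]
  exact ⟨fun _ => Group.isSolvable_of_isSolvable_injective (f := f.symm.toMonoidHom) f.symm.injective,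
    fun _ => Group.isSolvable_of_isSolvable_injective (f := f.toMonoidHom) f.injective⟩

variable {F : Type*} [Field F] [CharP F 2]

theorem sq_one_iff (Y : SL F) : Y * Y = 1 ↔ mt Y 0 0 + mt Y 1 1 = 0 := by
  rw [← Matrix.trace_fin_two]
  have h := sq_eq (mt Y)
  rw [det_mt, one_smul, CharTwo.sub_eq_add] at h
  constructor
  · intro hY
    have h1 : mt Y * mt Y = 1 := congrArg Subtype.val hY
    rw [h1] at h
    have h2 : (mt Y).trace • mt Y = 0 := by simpa using h.symm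
    rcases smul_eq_zero.1 h2 with h3 | h3
    · exact h3
    · have := det_mt Y
      simp [h3] at this
  · intro ht
    refine Subtype.ext ?_
    show mt Y * mt Y = 1
    rw [h, ht, zero_smul, zero_add]

theorem prod_sq_one_iff (X Y : SL F) : (X * Y) * (X * Y) = 1 ↔
    mt X 0 0 * mt Y 0 0 + mt X 0 1 * mt Y 1 0 + (mt X 1 0 * mt Y 0 1 + mt X 1 1 * mt Y 1 1) = 0 := by
  rw [sq_one_iff, mt_mul]
  simp [Matrix.mul_apply, Fin.sum_univ_two]

omit [CharP F 2] in
theorem conj_entry (s X : SL F) : mt (s⁻¹ * X * s) 1 0 =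
    - mt s 1 0 * (mt X 0 0 * mt s 0 0 + mt X 0 1 * mt s 1 0) +
      mt s 0 0 * (mt X 1 0 * mt s 0 0 + mt X 1 1 * mt s 1 0) := by
  rw [mt_mul, mt_mul, mt_inv]
  simp [Matrix.mul_apply, Fin.sum_univ_two, Matrix.trace_fin_two]
  ring

/-- The explicit description of the solvable pairs. -/
def Sol (X Y : SL F) : Prop :=
  Rel X Y ∨ ∃ s : SL F, mt (s⁻¹ * X * s) 1 0 = 0 ∧ mt (s⁻¹ * Y * s) 1 0 = 0

theorem sol_bor {b : F} (hb : b ≠ 0) (Y : SL F) : Sol (bor 1 b) Y ↔
    mt Y 1 0 = 0 ∨ mt Y 0 0 + mt Y 1 1 = 0 * mt Y 1 0 ∨ mt Y 0 0 + mt Y 1 1 = b * mt Y 1 0 := by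
  have hp := prod_sq_one_iff (bor 1 b) Y
  simp [mt_bor] at hp
  have hp' : (bor 1 b * Y) * (bor 1 b * Y) = 1 ↔ mt Y 0 0 + mt Y 1 1 = b * mt Y 1 0 := by
    refine hp.trans ⟨fun h => ?_, fun h => ?_⟩
    · linear_combination h - (b * mt Y 1 0) * (CharTwo.two_eq_zero (R := F))
    · linear_combination h + (b * mt Y 1 0) * (CharTwo.two_eq_zero (R := F))
  rw [zero_mul]
  constructor
  · rintro (h | ⟨s, h1, h2⟩)
    · rcases h with h | ⟨-, h⟩ | ⟨-, h⟩ | ⟨h, -⟩
      · left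
        have h0 := congrFun (congrFun (congrArg SL2C.mt h.eq) 0) 0
        simp [mt_mul, mt_bor, Matrix.mul_apply, Fin.sum_univ_two] at h0
        exact h0.resolve_left hb
      · exact Or.inr (Or.inl ((sq_one_iff Y).1 h))
      · exact Or.inr (Or.inr (hp'.1 h))
      · exact Or.inr (Or.inl ((sq_one_iff Y).1 h))
    · left
      rw [conj_entry] at h1 h2
      simp [mt_bor] at h1
      have hu : mt s 1 0 = 0 := by
        have : b * mt s 1 0 ^ 2 = 0 := by linear_combination -h1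
        simpa [hb] using this
      have hd := det_mt s
      rw [Matrix.det_fin_two, hu] at hd
      have hp0 : mt s 0 0 ≠ 0 := fun e => by simp [e] at hd
      rw [hu] at h2
      simpa [hp0] using h2
  · have h1 : bor 1 b * bor 1 b = (1 : SL F) := (sq_one_iff _).2 (by simp [mt_bor, CharTwo.add_self_eq_zero])
    rintro (h | h | h)
    · exact Or.inr ⟨1, by rw [conj_entry]; simp [mt_bor, mt_one], by rw [conj_entry]; simp [mt_one, h]⟩
    · exact Or.inl (Or.inr (Or.inl ⟨h1, (sq_one_iff Y).2 h⟩))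
    · exact Or.inl (Or.inr (Or.inr (Or.inl ⟨h1, hp'.2 h⟩)))

omit [CharP F 2] in
/-- An element with prescribed lower left entry and diagonal. -/
theorem exists_of_low {c : F} (hc : c ≠ 0) (a d : F) :
    ∃ Y : SL F, mt Y 0 0 = a ∧ mt Y 1 0 = c ∧ mt Y 1 1 = d :=
  ⟨⟨!![a, (a * d - 1) / c; c, d], by rw [Matrix.det_fin_two_of]; field_simp; ring⟩, rfl, rfl, rfl⟩

theorem sol_dg {l : Fˣ} (hl : l * l ≠ 1) (Y : SL F) : Sol (dg l) Y ↔
    mt Y 1 0 = 0 ∨ mt Y 0 1 = 0 ∨ (mt Y 0 0 = 0 ∧ mt Y 1 1 = 0) := by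
  have hne : ((l⁻¹ : Fˣ) : F) - (l : F) ≠ 0 := fun e =>
    hl (inv_eq_iff_mul_eq_one.1 (Units.ext (sub_eq_zero.1 e)))
  have htX : (dg l : SL F) * dg l ≠ 1 := fun h => by
    have h1 := (sq_one_iff _).1 h
    simp [mt_dg] at h1
    refine hne ?_
    rw [Units.val_inv_eq_inv_val]
    linear_combination h1 - (l : F) * (CharTwo.two_eq_zero (R := F))
  constructor
  · rintro (h | ⟨s, h1, h2⟩)
    · rcases h with h | ⟨h, -⟩ | ⟨h, -⟩ | ⟨h, h'⟩
      · left
        have h0 := congrFun (congrFun (congrArg SL2C.mt h.eq) 1) 0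
        simp [mt_mul, mt_dg, Matrix.mul_apply, Fin.sum_univ_two] at h0
        exact (mul_eq_zero.1 (show (((l⁻¹ : Fˣ) : F) - (l : F)) * mt Y 1 0 = 0 by
          rw [Units.val_inv_eq_inv_val]; linear_combination h0)).resolve_left hne
      · exact absurd h htX
      · exact absurd h htX
      · right; right
        have e1 := (sq_one_iff Y).1 h
        have e2 := (prod_sq_one_iff _ Y).1 h'
        simp [mt_dg] at e2
        have ha : mt Y 0 0 = 0 := (mul_eq_zero.1 (show (((l⁻¹ : Fˣ) : F) - (l : F)) * mt Y 0 0 = 0 by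
          rw [Units.val_inv_eq_inv_val]; linear_combination -e2 + (l : F)⁻¹ * e1)).resolve_left hne
        exact ⟨ha, by linear_combination e1 - ha⟩
    · rw [conj_entry] at h1 h2
      simp [mt_dg] at h1
      have hd := det_mt s
      rw [Matrix.det_fin_two] at hd
      have : mt s 0 0 * mt s 1 0 * (((l⁻¹ : Fˣ) : F) - (l : F)) = 0 := by rw [Units.val_inv_eq_inv_val]; linear_combination h1
      rcases mul_eq_zero.1 ((mul_eq_zero.1 this).resolve_right hne) with e | e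
      · right; left
        have hu : mt s 1 0 ≠ 0 := fun e' => by simp [e, e'] at hd
        rw [e] at h2
        simpa [hu] using h2
      · left
        have hp0 : mt s 0 0 ≠ 0 := fun e' => by simp [e, e'] at hd
        rw [e] at h2
        simpa [hp0] using h2
  · rintro (h | h | ⟨ha, hd⟩)
    · exact Or.inr ⟨1, by rw [conj_entry]; simp [mt_dg, mt_one], by rw [conj_entry]; simp [mt_one, h]⟩
    · obtain ⟨w, hw0, hw1, -⟩ := exists_of_low (one_ne_zero (α := F)) 0 0
      refine Or.inr ⟨w, ?_, ?_⟩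
      · rw [conj_entry]; simp [mt_dg, hw0, hw1]
      · rw [conj_entry]; simp [h, hw0, hw1]
    · exact Or.inl (Or.inr (Or.inr (Or.inr ⟨(sq_one_iff Y).2 (by rw [ha, hd, add_zero]),
        (prod_sq_one_iff _ Y).2 (by simp [mt_dg, ha, hd])⟩)))

theorem ell_trace_ne {X : SL F} (hX : Ell X) : ¬ X * X = 1 := fun h => by
  refine hX.det_smul_add_smul_ne_zero (a := 1) (b := 1) (Or.inl one_ne_zero) ?_
  rw [det_smul_add_smul, det_mt, Matrix.trace_fin_two, (sq_one_iff X).1 h]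
  linear_combination (CharTwo.two_eq_zero (R := F))

theorem sol_ell {X : SL F} (hX : Ell X) (Y : SL F) :
    Sol X Y ↔ X * Y = Y * X ∨ Y * X * Y⁻¹ = X⁻¹ := by
  constructor
  · rintro (h | ⟨s, h1, -⟩)
    · rcases h with h | ⟨h, -⟩ | ⟨h, -⟩ | ⟨h, h'⟩
      · exact Or.inl h.eq
      · exact absurd h (ell_trace_ne hX)
      · exact absurd h (ell_trace_ne hX)
      · refine Or.inr ((inv_eq_of_mul_eq_one_right ?_).symm)
        rw [inv_eq_of_mul_eq_one_right h, ← h']
        simp only [mul_assoc]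
    · obtain ⟨a, b, hab⟩ := exists_bor_of_apply h1
      exact absurd (Ell.of_isConj hX (isConj_iff.2 ⟨s⁻¹, by rw [inv_inv, hab]⟩)) (not_ell_bor a b)
  · rintro (h | h)
    · exact Or.inl (Or.inl h)
    · have key : ∀ Z : SL F, Z * X * Z⁻¹ = X⁻¹ → Z * Z = 1 := by
        intro Z hZ
        by_contra hne
        have ht : mt Z 0 0 + mt Z 1 1 ≠ 0 := fun e => hne ((sq_one_iff Z).2 e)
        have hc : (Z * Z) * X = X * (Z * Z) := by
          have e1 : Z * X = X⁻¹ * Z := mul_inv_eq_iff_eq_mul.1 hZ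
          have e2 : Z * X⁻¹ = X * Z := by
            have := congrArg (·⁻¹) hZ
            simp at this
            exact mul_inv_eq_iff_eq_mul.1 (by simpa [mul_assoc] using this)
          rw [mul_assoc, e1, ← mul_assoc, e2, mul_assoc]
        have hc2 : Z * X = X * Z := by
          rw [commute_iff_mt] at hc ⊢
          rw [mt_mul, sq_eq, Matrix.sub_mul, Matrix.mul_sub, det_mt, one_smul, Matrix.one_mul, Matrix.mul_one,
            sub_left_inj, Matrix.smul_mul, Matrix.mul_smul, Matrix.trace_fin_two] at hc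
          exact smul_right_injective _ ht hc
        exact Ell.inv_ne_self hX (by rw [← hZ, hc2, mul_inv_cancel_right])
      refine Or.inl (Or.inr (Or.inr (Or.inr ⟨key Y h, key (X * Y) ?_⟩)))
      calc X * Y * X * (X * Y)⁻¹ = X * (Y * X * Y⁻¹) * X⁻¹ := by group
        _ = X⁻¹ := by rw [h]; group

omit [CharP F 2] in
theorem ext_of_low {Y Z : SL F} (hc : mt Y 1 0 ≠ 0) (h0 : mt Y 0 0 = mt Z 0 0) (h1 : mt Y 1 0 = mt Z 1 0)
    (h2 : mt Y 1 1 = mt Z 1 1) : Y = Z := by
  apply mt_injective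
  have e1 := det_mt Y
  have e2 := det_mt Z
  rw [Matrix.det_fin_two] at e1 e2
  ext i j
  fin_cases i <;> fin_cases j
  · exact h0
  · refine mul_right_cancel₀ hc ?_
    show mt Y 0 1 * mt Y 1 0 = mt Z 0 1 * mt Y 1 0
    rw [← h0, ← h1, ← h2] at e2
    linear_combination e2 - e1
  · exact h1
  · exact h2

variable [Fintype F]

omit [CharP F 2] in
theorem ncard_upper : {Y : SL F | mt Y 1 0 = 0}.ncard = Fintype.card F * (Fintype.card F - 1) := by
  rw [← Nat.card_coe_set_eq, ← Nat.card_eq_of_bijective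
    (fun z : Fˣ × F => (⟨bor z.1 z.2, show mt (bor z.1 z.2) 1 0 = 0 by simp [mt_bor]⟩ : {Y : SL F | mt Y 1 0 = 0})) ⟨fun z w h => ?_, fun Y => ?_⟩]
  · classical
    rw [Nat.card_prod, Nat.card_units, Nat.card_eq_fintype_card, mul_comm]
  · obtain ⟨h1, h2⟩ := bor_inj (congrArg Subtype.val h)
    exact Prod.ext h1 h2
  · obtain ⟨a, b, h⟩ := exists_bor_of_apply Y.2
    exact ⟨(a, b), Subtype.ext h.symm⟩

omit [CharP F 2] in
theorem ncard_line (k : F) : {Y : SL F | mt Y 1 0 ≠ 0 ∧ mt Y 0 0 + mt Y 1 1 = k * mt Y 1 0}.ncard =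
    Fintype.card F * (Fintype.card F - 1) := by
  choose f h0 h1 h2 using fun z : Fˣ × F => exists_of_low z.1.ne_zero z.2 (k * (z.1 : F) - z.2)
  rw [← Nat.card_coe_set_eq, ← Nat.card_eq_of_bijective
    (fun z : Fˣ × F => (⟨f z, by simp [h1], by simp [h0, h1, h2]⟩ :
      {Y : SL F | mt Y 1 0 ≠ 0 ∧ mt Y 0 0 + mt Y 1 1 = k * mt Y 1 0})) ⟨fun z w h => ?_, fun Y => ?_⟩]
  · classical
    rw [Nat.card_prod, Nat.card_units, Nat.card_eq_fintype_card, mul_comm]
  · have e := congrArg Subtype.val h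
    refine Prod.ext (Units.ext ?_) ?_
    · rw [← h1 z, ← h1 w]; exact congrArg (fun Y : SL F => mt Y 1 0) e
    · rw [← h0 z, ← h0 w]; exact congrArg (fun Y : SL F => mt Y 0 0) e
  · refine ⟨(Units.mk0 _ Y.2.1, mt Y.1 0 0), Subtype.ext (ext_of_low ?_ (h0 _) (h1 _) ?_)⟩
    · rw [h1]; exact Y.2.1
    · rw [h2]
      show k * mt Y.1 1 0 - mt Y.1 0 0 = _
      linear_combination -Y.2.2

theorem ncard_sol_bor {b : F} (hb : b ≠ 0) :
    {Y : SL F | Sol (bor 1 b) Y}.ncard = 3 * Fintype.card F * (Fintype.card F - 1) := by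
  have he : {Y : SL F | Sol (bor 1 b) Y} = {Y : SL F | mt Y 1 0 = 0} ∪
      ({Y : SL F | mt Y 1 0 ≠ 0 ∧ mt Y 0 0 + mt Y 1 1 = 0 * mt Y 1 0} ∪
        {Y : SL F | mt Y 1 0 ≠ 0 ∧ mt Y 0 0 + mt Y 1 1 = b * mt Y 1 0}) := by
    ext Y
    simp only [Set.mem_setOf_eq, Set.mem_union, sol_bor hb]
    tauto
  rw [he, Set.ncard_union_eq ?_, Set.ncard_union_eq ?_, ncard_upper, ncard_line, ncard_line]
  · ring
  · refine Set.disjoint_left.2 fun Y h1 h2 => ?_
    have := h1.2.symm.trans h2.2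
    simp [hb, h1.1] at this
  · refine Set.disjoint_left.2 fun Y h1 h2 => ?_
    rcases h2 with h2 | h2 <;> exact h2.1 h1

theorem ncard_sol_dg {l : Fˣ} (hl : l * l ≠ 1) :
    {Y : SL F | Sol (dg l) Y}.ncard = 2 * Fintype.card F * (Fintype.card F - 1) := by
  classical
  have he : {Y : SL F | Sol (dg l) Y} = {Y : SL F | mt Y 1 0 = 0} ∪
      ({Y : SL F | mt Y 1 0 ≠ 0 ∧ mt Y 0 1 = 0} ∪
        {Y : SL F | mt Y 0 0 = 0 ∧ mt Y 1 1 = 0}) := by
    ext Y
    simp only [Set.mem_setOf_eq, Set.mem_union, sol_dg hl]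
    tauto
  have hdetne : ∀ Y : SL F, mt Y 0 0 = 0 → mt Y 1 0 ≠ 0 ∧ mt Y 0 1 ≠ 0 := fun Y h => by
    have hd := det_mt Y
    rw [Matrix.det_fin_two, h] at hd
    exact ⟨fun e => by simp [e] at hd, fun e => by simp [e] at hd⟩
  have c2 : {Y : SL F | mt Y 1 0 ≠ 0 ∧ mt Y 0 1 = 0}.ncard = (Fintype.card F - 1) * (Fintype.card F - 1) := by
    choose f h0 h1 h2 using fun z : Fˣ × Fˣ => exists_of_low (F := F) z.1.ne_zero (z.2 : F) ((z.2 : F)⁻¹)
    have h3 : ∀ z, mt (f z) 0 1 = 0 := fun z => by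
      have hd := det_mt (f z)
      rw [Matrix.det_fin_two, h0, h1, h2] at hd
      simpa using hd
    rw [← Nat.card_coe_set_eq, ← Nat.card_eq_of_bijective
      (fun z : Fˣ × Fˣ => (⟨f z, by simp [h1], h3 z⟩ : {Y : SL F | mt Y 1 0 ≠ 0 ∧ mt Y 0 1 = 0}))
      ⟨fun z w h => ?_, fun Y => ?_⟩]
    · rw [Nat.card_prod, Nat.card_units, Nat.card_eq_fintype_card]
    · have e := congrArg Subtype.val h
      refine Prod.ext (Units.ext ?_) (Units.ext ?_)
      · rw [← h1 z, ← h1 w]; exact congrArg (fun Y : SL F => mt Y 1 0) e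
      · rw [← h0 z, ← h0 w]; exact congrArg (fun Y : SL F => mt Y 0 0) e
    · have hd := det_mt Y.1
      rw [Matrix.det_fin_two, Y.2.2] at hd
      simp only [zero_mul, sub_zero] at hd
      refine ⟨(Units.mk0 _ Y.2.1, Units.mk0 _ (left_ne_zero_of_mul (hd.trans_ne one_ne_zero))),
        Subtype.ext (ext_of_low ?_ (h0 _) (h1 _) ?_)⟩
      · rw [h1]; exact Y.2.1
      · rw [h2]
        exact inv_eq_of_mul_eq_one_right hd
  have c3 : {Y : SL F | mt Y 0 0 = 0 ∧ mt Y 1 1 = 0}.ncard = Fintype.card F - 1 := by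
    choose f h0 h1 h2 using fun z : Fˣ => exists_of_low (F := F) z.ne_zero 0 0
    rw [← Nat.card_coe_set_eq, ← Nat.card_eq_of_bijective
      (fun z : Fˣ => (⟨f z, h0 z, h2 z⟩ : {Y : SL F | mt Y 0 0 = 0 ∧ mt Y 1 1 = 0}))
      ⟨fun z w h => ?_, fun Y => ?_⟩]
    · rw [Nat.card_units, Nat.card_eq_fintype_card]
    · refine Units.ext ?_
      rw [← h1 z, ← h1 w]; exact congrArg (fun Y : {Y : SL F | mt Y 0 0 = 0 ∧ mt Y 1 1 = 0} => mt Y.1 1 0) h
    · refine ⟨Units.mk0 _ (hdetne Y.1 Y.2.1).1, Subtype.ext (ext_of_low ?_ ?_ (h1 _) ?_)⟩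
      · rw [h1]; exact (hdetne Y.1 Y.2.1).1
      · rw [h0, Y.2.1]
      · rw [h2, Y.2.2]
  rw [he, Set.ncard_union_eq ?_, Set.ncard_union_eq ?_, ncard_upper, c2, c3]
  · obtain ⟨n, hn⟩ : ∃ n, Fintype.card F = n + 1 := ⟨Fintype.card F - 1, by have := Fintype.card_pos (α := F); omega⟩
    rw [hn, Nat.add_sub_cancel]
    ring
  · refine Set.disjoint_left.2 fun Y h1 h2 => ?_
    exact (hdetne Y h2.1).2 h1.2
  · refine Set.disjoint_left.2 fun Y h1 h2 => ?_
    rcases h2 with h2 | h2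
    · exact h2.1 h1
    · exact (hdetne Y h2.1).1 h1

theorem ncard_sol_ell {X : SL F} (hX : Ell X) :
    {Y : SL F | Sol X Y}.ncard = 2 * (Fintype.card F + 1) := by
  have he : {Y : SL F | Sol X Y} = (tor X : Set (SL F)) ∪ {Y : SL F | Y * X * Y⁻¹ = X⁻¹} := by
    ext Y
    simp only [Set.mem_setOf_eq, Set.mem_union, sol_ell hX, SetLike.mem_coe,
      Subgroup.mem_centralizer_singleton_iff]
    exact or_congr_left ⟨Eq.symm, Eq.symm⟩
  have ht : (mt X).trace = (mt X⁻¹).trace := by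
    rw [mt_inv]
    simp [Matrix.trace_fin_two]
    ring
  have hnc : X⁻¹ ∉ Subgroup.center (SL F) := fun h => Ell.not_mem_center hX (by simpa using inv_mem h)
  obtain ⟨w, hw⟩ := isConj_iff.1 (Ell.isConj_of_trace hX hnc ht)
  have he2 : {Y : SL F | Y * X * Y⁻¹ = X⁻¹} = (fun z => w * z) '' (tor X : Set (SL F)) := by
    ext Y
    simp only [Set.mem_setOf_eq, Set.mem_image, SetLike.mem_coe, Subgroup.mem_centralizer_singleton_iff]
    constructor
    · intro h
      refine ⟨w⁻¹ * Y, ?_, by group⟩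
      calc w⁻¹ * Y * X = w⁻¹ * (Y * X * Y⁻¹) * Y := by group
        _ = w⁻¹ * (w * X * w⁻¹) * Y := by rw [h, hw]
        _ = X * (w⁻¹ * Y) := by group
    · rintro ⟨z, hz, rfl⟩
      calc w * z * X * (w * z)⁻¹ = w * (z * X) * z⁻¹ * w⁻¹ := by group
        _ = w * (X * z) * z⁻¹ * w⁻¹ := by rw [hz]
        _ = X⁻¹ := by rw [← hw]; group
  have hc : (tor X : Set (SL F)).ncard = Fintype.card F + 1 := by
    rw [← Nat.card_coe_set_eq]; exact card_tor hX
  rw [he, Set.ncard_union_eq ?_, hc, he2, Set.ncard_image_of_injective _ (mul_right_injective w), hc]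
  · ring
  · refine Set.disjoint_left.2 fun Y h1 h2 => ?_
    have h3 : Y * X = X * Y := Subgroup.mem_centralizer_singleton_iff.1 h1
    refine Ell.inv_ne_self hX ?_
    rw [← show Y * X * Y⁻¹ = X⁻¹ from h2, h3, mul_inv_cancel_right]

theorem num_eq {p : ℕ} (hp : p.Prime) (hF : Fintype.card F = 2 ^ p) (X : SL F) :
    num (CfsgLib.SL2Char2.slEquivPSL X) = {Y : SL F | Sol X Y}.ncard := by
  rw [← Nat.card_coe_set_eq]
  refine (Nat.card_congr (Equiv.subtypeEquiv CfsgLib.SL2Char2.slEquivPSL.toEquiv fun Y => ?_)).symm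
  exact (solvable_iff hp hF X Y).symm

/-- The three solubilizer orders. -/
theorem num_cases {p : ℕ} (hp : p.Prime) (hF : Fintype.card F = 2 ^ p) (x : PSL2 F) :
    x = 1 ∨ (orderOf x = 2 ∧ num x = 3 * 2 ^ p * (2 ^ p - 1)) ∨
      (orderOf x ∣ 2 ^ p - 1 ∧ orderOf x ≠ 1 ∧ num x = 2 * 2 ^ p * (2 ^ p - 1)) ∨
      (orderOf x ∣ 2 ^ p + 1 ∧ orderOf x ≠ 1 ∧ num x = 2 * (2 ^ p + 1)) := by
  classical
  set e := CfsgLib.SL2Char2.slEquivPSL (F := F)
  obtain ⟨X, rfl⟩ := e.surjective x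
  have key : ∀ {X' : SL F}, IsConj X' X → num (e X) = {Y : SL F | Sol X' Y}.ncard ∧
      orderOf (e X) = orderOf X' := by
    intro X' h
    obtain ⟨h', rfl⟩ := isConj_iff.1 h
    have h1 : h' * X' * h'⁻¹ = MulAut.conj h' X' := rfl
    refine ⟨?_, ?_⟩
    · rw [h1, num_map e (MulAut.conj h' X'), num_map (MulAut.conj h') X', ← num_map e X', num_eq hp hF]
    · rw [e.orderOf_eq, h1, MulEquiv.orderOf_eq]
  rcases cases4 X with h | ⟨a, ha, h⟩ | ⟨a, b, ha, hb, h⟩ | h
  · left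
    rw [CfsgLib.SL2C.center_eq_bot, Subgroup.mem_bot] at h
    rw [h, map_one]
  · obtain ⟨hn, ho⟩ := key h
    right; right; left
    have hinj : Function.Injective (dg : Fˣ →* SL F) := fun u v huv => (bor_inj huv).1
    rw [hn, ncard_sol_dg ha, ho, orderOf_injective dg hinj, hF]
    refine ⟨?_, fun h1 => ha (by rw [orderOf_eq_one_iff.1 h1, one_mul]), rfl⟩
    have := orderOf_dvd_natCard a
    rwa [Nat.card_units, Nat.card_eq_fintype_card, hF] at this
  · obtain ⟨hn, ho⟩ := key h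
    right; left
    obtain rfl : a = 1 := Units.ext (by
      have h1 : (a : F) * a = 1 := by rw [← Units.val_mul, ha, Units.val_one]
      rcases mul_self_eq_one_iff.1 h1 with h2 | h2
      · simpa using h2
      · rw [Units.val_one, h2, CharTwo.neg_eq])
    rw [hn, ncard_sol_bor hb, hF]
    refine ⟨?_, rfl⟩
    rw [ho]
    refine orderOf_eq_prime ?_ ?_
    · rw [sq]; exact (sq_one_iff _).2 (by simp [mt_bor, CharTwo.add_self_eq_zero])
    · exact fun h1 => hb (bor_inj (show bor 1 b = bor 1 0 from h1.trans (dg (F := F)).map_one.symm)).2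
  · obtain ⟨hn, ho⟩ := key (IsConj.refl X)
    right; right; right
    rw [hn, ncard_sol_ell h, ho, hF]
    refine ⟨?_, fun h1 => Ell.not_mem_center h (by rw [orderOf_eq_one_iff.1 h1]; exact one_mem _), rfl⟩
    have := orderOf_dvd_natCard (⟨X, Subgroup.mem_centralizer_singleton_iff.2 rfl⟩ : tor X)
    rwa [Subgroup.orderOf_mk, card_tor h, hF] at this

end CfsgLib.Solubilizer
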