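import Cfsg.Agent.Solubilizer.ThreeInvol

/-!
The solubilizer orders in PSL(2,3^p).
-/

set_option autoImplicit false

namespace CfsgLib.Solubilizer

open CfsgLib.Dickson CfsgLib.SL2C Matrix

variable {F : Type*} [Field F] [Fintype F] [CharP F 3]

theorem natCard_center_two : Nat.card (Subgroup.center (SL F)) = 2 := by
  have hne : (1 : SL F) ≠ negOne F := fun h => two_ne (F := F) (by
    have h1 := congrArg (fun Z : SL F => mt Z 0 0) h
    simp [mt_one, mt_negOne] at h1
    linear_combination h1)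
  have he : (Subgroup.center (SL F) : Set (SL F)) = {1, negOne F} := by
    ext z
    simp only [Set.mem_insert_iff, Set.mem_singleton_iff, SetLike.mem_coe]
    exact ⟨center_cases, fun h => by rcases h with rfl | rfl <;> [exact one_mem _; exact negOne_mem_center]⟩
  show Nat.card (Subgroup.center (SL F) : Set (SL F)) = 2
  rw [Nat.card_coe_set_eq, he, Set.ncard_pair hne]

theorem two_mul_num {p : ℕ} (hp : p.Prime) (hodd : Odd p) (hF : Fintype.card F = 3 ^ p) (X : SL F) :
    2 * num (pm X : PSL2 F) = {Y : SL F | Sol3 X Y}.ncard := by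
  have he : {Y : SL F | Sol3 X Y} = (QuotientGroup.mk : SL F → PSL2 F) ⁻¹'
      {y | Group.IsSolvable ↥(Subgroup.closure ({pm X, y} : Set (PSL2 F)))} := by
    ext Y
    exact ((solvable_iff_three hp hodd hF X Y).trans (or_congr_left (rel_iff X Y))).symm
  rw [he, ← Nat.card_coe_set_eq, Nat.card_congr (QuotientGroup.preimageMkEquivSubgroupProdSet _ _), Nat.card_prod,
    natCard_center_two]
  rfl

/-- The four solubilizer orders. -/
theorem num_cases_three {p : ℕ} (hp : p.Prime) (hodd : Odd p) (hF : Fintype.card F = 3 ^ p) (x : PSL2 F) :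
    x = 1 ∨ (orderOf x = 2 ∧ num x = 3 ^ p * (3 ^ p + 1)) ∨
      (orderOf x = 3 ∧ 2 * num x = 3 ^ p * (3 ^ p + 5)) ∨
      (orderOf x ∣ 3 ^ p - 1 ∧ orderOf x ≠ 1 ∧ orderOf x ≠ 2 ∧ num x = 3 ^ p * (3 ^ p - 1)) ∨
      (orderOf x ∣ 3 ^ p + 1 ∧ orderOf x ≠ 1 ∧ orderOf x ≠ 2 ∧ num x = 3 ^ p + 1) := by
  classical
  have three := three_zero (F := F)
  have hns : ¬ IsSquare (-1 : F) := by
    rw [FiniteField.isSquare_neg_one_iff, not_not, hF]
    obtain ⟨k, rfl⟩ := hodd
    rw [pow_add, pow_mul, Nat.mul_mod, Nat.pow_mod]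
    norm_num
  obtain ⟨X, rfl⟩ := pm_surjective x
  have key : ∀ {X' : SL F}, IsConj (pm X') (pm X) → 2 * num (pm X) = {Y : SL F | Sol3 X' Y}.ncard ∧
      orderOf (pm X) = orderOf (pm X') := by
    intro X' h
    obtain ⟨h', hh⟩ := isConj_iff.1 h
    have h1 : pm X = MulAut.conj h' (pm X') := hh.symm
    refine ⟨?_, ?_⟩
    · rw [h1, num_map (MulAut.conj h') (pm X'), two_mul_num hp hodd hF]
    · rw [h1, MulEquiv.orderOf_eq]
  have hne1 : ∀ Z : SL F, Z ∉ Subgroup.center (SL F) → orderOf (pm Z) ≠ 1 := fun Z hZ h =>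
    hZ (pm_eq_one_iff.1 (orderOf_eq_one_iff.1 h))
  have hne2 : ∀ Z : SL F, Z ∉ Subgroup.center (SL F) → (mt Z).trace ≠ 0 → orderOf (pm Z) ≠ 2 := by
    intro Z hZ ht h
    have h2 := pow_orderOf_eq_one (pm Z)
    rw [h, sq] at h2
    rcases (pm_sq_iff Z).1 h2 with e | e
    · exact ht e
    · exact hZ e
  rcases cases4 X with h | ⟨a, ha, h⟩ | ⟨e, b, he, hb, h⟩ | h
  · exact Or.inl (pm_eq_one_iff.2 h)
  · right; right; right; left
    obtain ⟨hn, ho⟩ := key (MonoidHom.map_isConj pm h)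
    have hA : (a : F) * ((a⁻¹ : Fˣ) : F) = 1 := a.mul_inv
    have htr : (mt (dg a : SL F)).trace = (a : F) + ((a⁻¹ : Fˣ) : F) := trace_mt_bor a 0
    have hs0 : (mt (dg a : SL F)).trace ≠ 0 := by
      rw [htr]
      intro e
      exact hns ⟨(a : F), by linear_combination hA - (a : F) * e⟩
    have hs1 : (mt (dg a : SL F)).trace ^ 2 ≠ 1 := by
      rw [htr]
      intro e
      refine ha (Units.ext ?_)
      rw [Units.val_mul, Units.val_one]
      have : ((a : F) * a - 1) ^ 2 = 0 := by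
        linear_combination (a : F) ^ 2 * e - ((a : F) * ((a⁻¹ : Fˣ) : F) + 1 + 2 * (a : F) ^ 2) * hA - (a : F) ^ 2 * three
      exact sub_eq_zero.1 ((pow_eq_zero_iff two_ne_zero).1 this)
    have hnc : (dg a : SL F) ∉ Subgroup.center (SL F) := fun hc => ha (bor_mem_center_iff.1 hc).1
    refine ⟨?_, ho ▸ hne1 _ hnc, ho ▸ hne2 _ hnc hs0, ?_⟩
    · rw [ho]
      refine (orderOf_map_dvd pm (dg a : SL F)).trans ((orderOf_map_dvd dg a).trans ?_)
      have := orderOf_dvd_natCard a
      rwa [Nat.card_units, Nat.card_eq_fintype_card, hF] at this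
    · refine Nat.eq_of_mul_eq_mul_left two_pos ?_
      rw [hn, show {Y : SL F | Sol3 (dg a) Y} =
          {Y : SL F | mt Y 1 0 = 0 ∨ mt Y 0 1 = 0 ∨ (mt Y 0 0 = 0 ∧ mt Y 1 1 = 0)} from
        Set.ext fun Y => sol3_dg ha hs0 hs1 Y, ncard_split_set, hF, mul_assoc]
  · right; right; left
    obtain ⟨b', hb', hpm⟩ : ∃ b' : F, b' ≠ 0 ∧ pm (bor (1 : Fˣ) b') = pm (bor e b) := by
      rcases sgn_cases (mem_sgn.2 he) with rfl | rfl
      · exact ⟨b, hb, rfl⟩
      · refine ⟨-b, neg_ne_zero.2 hb, ?_⟩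
        rw [show bor (-1 : Fˣ) b = negOne F * bor (1 : Fˣ) (-b) from by
          refine mt_injective ?_
          rw [mt_mul, mt_negOne, mt_bor, mt_bor]
          ext i j
          fin_cases i <;> fin_cases j <;> simp,
          map_mul, pm_eq_one_iff.2 negOne_mem_center, one_mul]
    obtain ⟨hn, ho⟩ := key (X' := bor 1 b') (hpm ▸ MonoidHom.map_isConj pm h)
    rw [ncard_sol3_par hb', hF] at hn
    refine ⟨?_, hn⟩
    rw [ho]
    refine orderOf_eq_prime ?_ ?_
    · rw [pow_succ, sq]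
      refine (pm_cube_iff _).2 ?_
      rw [trace_mt_bor]
      simp
      linear_combination three
    · exact fun h1 => hb' (bor_mem_center_iff.1 (pm_eq_one_iff.1 h1)).2
  · by_cases hs0 : (mt X).trace = 0
    · right; left
      have hc : IsConj (quarter F) X := Ell.isConj_of_trace (ell_quarter hns) (Ell.not_mem_center h)
        (by rw [hs0, mt_quarter]; simp [Matrix.trace_fin_two])
      obtain ⟨hn, -⟩ := key (MonoidHom.map_isConj pm hc)
      rw [ncard_sol3_quarter hns, hF, mul_assoc] at hn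
      refine ⟨orderOf_eq_prime ?_ ?_, Nat.eq_of_mul_eq_mul_left two_pos hn⟩
      · rw [sq]; exact (pm_sq_iff X).2 (Or.inl hs0)
      · exact fun h1 => Ell.not_mem_center h (pm_eq_one_iff.1 h1)
    · right; right; right; right
      have hs1 : (mt X).trace ^ 2 ≠ 1 := by
        intro e
        refine h.det_smul_add_smul_ne_zero (a := (mt X).trace) (b := -2) (Or.inr (neg_ne_zero.2 two_ne)) ?_
        rw [det_smul_add_smul, det_mt]
        linear_combination -e + three
      obtain ⟨hn, -⟩ := key (IsConj.refl (pm X))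
      rw [ncard_sol3_ell h hs0 hs1, hF] at hn
      refine ⟨(orderOf_map_dvd pm X).trans ?_, hne1 _ (Ell.not_mem_center h), hne2 _ (Ell.not_mem_center h) hs0,
        Nat.eq_of_mul_eq_mul_left two_pos hn⟩
      have := orderOf_dvd_natCard (⟨X, Subgroup.mem_centralizer_singleton_iff.2 rfl⟩ : tor X)
      rwa [Subgroup.orderOf_mk, card_tor h, hF] at this

end CfsgLib.Solubilizer
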