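import Cfsg.Agent.Solubilizer.Even
import Cfsg.Agent.S0205

/-!
# Groups all of whose solubilizers are subgroups, given the criterion by pairs
-/

set_option autoImplicit false
set_option linter.style.haveILetI false

namespace CfsgLib.Solubilizer

universe u

/-- All solubilizers are subgroups. -/
def AllSubgroups (G : Type u) [Group G] : Prop :=
  ∀ x : G, ∃ H : Subgroup G,
    (H : Set G) = {y : G | Group.IsSolvable ↥(Subgroup.closure ({x, y} : Set G))}

theorem isSolvable_of_quotient {G : Type u} [Group G] (N : Subgroup G) [N.Normal]
    (hN : Group.IsSolvable N) (hQ : Group.IsSolvable (G ⧸ N)) : Group.IsSolvable G :=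
  Group.isSolvable_of_ker_le_range N.subtype (QuotientGroup.mk' N)
    (by rw [QuotientGroup.ker_mk', Subgroup.range_subtype])

theorem solvable_pair_iff_map {G H : Type u} [Group G] [Group H] (f : G →* H)
    (hf : Group.IsSolvable f.ker) (x y : G) :
    Group.IsSolvable (Subgroup.closure ({x, y} : Set G)) ↔
      Group.IsSolvable (Subgroup.closure ({f x, f y} : Set H)) := by
  have he : (Subgroup.closure ({x, y} : Set G)).map f = Subgroup.closure ({f x, f y} : Set H) := by
    rw [MonoidHom.map_closure, Set.image_pair]
  rw [← he]
  set L := Subgroup.closure ({x, y} : Set G)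
  constructor
  · intro h
    exact Group.isSolvable_of_surjective (f := f.subgroupMap L) (f.subgroupMap_surjective L)
  · intro h
    set g := f.subgroupMap L
    have hker : Group.IsSolvable g.ker := by
      refine Group.isSolvable_of_isSolvable_injective (f := ((L.subtype.comp g.ker.subtype).codRestrict f.ker
        fun v => by
          have := congrArg Subtype.val v.2
          exact this)) ?_
      intro a b hab
      have h' := congrArg Subtype.val hab
      exact Subtype.ext (Subtype.ext h')
    haveI := h
    exact Group.isSolvable_of_ker_le_range g.ker.subtype g (by rw [Subgroup.range_subtype])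

theorem isSolvable_of_allSubgroups
    (h489 : ∀ (X : Type u) [Group X] [Finite X],
      (∀ a b : X, Group.IsSolvable (Subgroup.closure ({a, b} : Set X))) → Group.IsSolvable X) :
    ∀ (n : ℕ) (G : Type u) [Group G] [Finite G], Nat.card G = n → AllSubgroups G →
      Group.IsSolvable G := by
  intro n
  induction n using Nat.strong_induction_on with
  | _ n ih =>
    intro G _ _ hn hall
    have hsub : ∀ H : Subgroup G, H ≠ ⊤ → Group.IsSolvable H := by
      intro H hH
      refine ih (Nat.card H) ?_ H rfl fun x => ?_
      · rw [← hn]
        exact lt_of_le_of_ne (H.card_le_card_group) fun h => hH (Subgroup.eq_top_of_card_eq H h)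
      · obtain ⟨K, hK⟩ := hall (x : G)
        refine ⟨K.comap H.subtype, ?_⟩
        ext y
        show (y : G) ∈ (K : Set G) ↔ _
        rw [hK, Set.mem_setOf_eq, Set.mem_setOf_eq]
        exact (solvable_pair_iff_map H.subtype
          (by rw [Subgroup.ker_subtype]; infer_instance) x y).symm
    by_cases hN : ∃ N : Subgroup G, N.Normal ∧ N ≠ ⊥ ∧ N ≠ ⊤
    · obtain ⟨N, hNn, hNb, hNt⟩ := hN
      have hNs := hsub N hNt
      refine isSolvable_of_quotient N hNs (ih (Nat.card (G ⧸ N)) ?_ (G ⧸ N) rfl fun q => ?_)
      · rw [← hn, ← N.index_mul_card, Subgroup.index]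
        have h1 : 1 < Nat.card N := N.one_lt_card_iff_ne_bot.2 hNb
        exact lt_mul_of_one_lt_right Nat.card_pos h1
      · obtain ⟨x, rfl⟩ := QuotientGroup.mk'_surjective N q
        obtain ⟨K, hK⟩ := hall x
        refine ⟨K.map (QuotientGroup.mk' N), ?_⟩
        have hker : Group.IsSolvable (QuotientGroup.mk' N).ker := by
          rw [QuotientGroup.ker_mk']; exact hNs
        ext r
        obtain ⟨y, rfl⟩ := QuotientGroup.mk'_surjective N r
        rw [Subgroup.coe_map, Set.mem_setOf_eq, ← solvable_pair_iff_map _ hker x y]
        constructor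
        · rintro ⟨z, hz, hzy⟩
          rw [hK, Set.mem_setOf_eq, solvable_pair_iff_map _ hker x z, hzy,
            ← solvable_pair_iff_map _ hker x y] at hz
          exact hz
        · intro h
          exact ⟨y, by rw [hK]; exact h, rfl⟩
    push Not at hN
    rcases Nat.even_or_odd (Nat.card G) with hev | hodd
    swap
    · exact Cfsg.Agent.S0205.result hodd
    haveI : Fintype G := Fintype.ofFinite G
    haveI : Fact (Nat.Prime 2) := ⟨Nat.prime_two⟩
    obtain ⟨t, ht⟩ := exists_prime_orderOf_dvd_card' 2 hev.two_dvd
    -- the involutions generate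
    set I := {s : G | orderOf s = 2}
    have hI : Subgroup.closure I = ⊤ := by
      have hn' : (Subgroup.closure I).Normal := by
        refine ⟨fun a ha g => ?_⟩
        have : (Subgroup.closure I).map (MulAut.conj g).toMonoidHom ≤ Subgroup.closure I := by
          rw [MonoidHom.map_closure]
          refine Subgroup.closure_mono ?_
          rintro _ ⟨s, hs, rfl⟩
          exact ((MulAut.conj g).orderOf_eq s).trans hs
        exact this ⟨a, ha, rfl⟩
      refine hN _ hn' fun h => ?_
      have : t ∈ (⊥ : Subgroup G) := h ▸ Subgroup.subset_closure (show t ∈ I from ht)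
      rw [Subgroup.mem_bot] at this
      rw [this, orderOf_one] at ht
      exact absurd ht (by norm_num)
    have hinv : ∀ s ∈ I, s * s = 1 := fun s hs => by
      rw [← sq, ← (hs : orderOf s = 2), pow_orderOf_eq_one]
    have h1 : ∀ s ∈ I, ∀ y : G, Group.IsSolvable (Subgroup.closure ({s, y} : Set G)) := by
      intro s hs y
      obtain ⟨K, hK⟩ := hall s
      have hle : Subgroup.closure I ≤ K := (Subgroup.closure_le K).2 fun r hr => by
        rw [hK]
        exact Rel.solvable (Or.inr (Or.inl ⟨hinv s hs, hinv r hr⟩))
      have hy : y ∈ (K : Set G) := hle (hI ▸ Subgroup.mem_top y)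
      rw [hK] at hy
      exact hy
    refine h489 G fun a b => ?_
    obtain ⟨K, hK⟩ := hall a
    have hle : Subgroup.closure I ≤ K := (Subgroup.closure_le K).2 fun r hr => by
      rw [hK, Set.mem_setOf_eq, Set.pair_comm]
      exact h1 r hr a
    have hb : b ∈ (K : Set G) := hle (hI ▸ Subgroup.mem_top b)
    rw [hK] at hb
    exact hb

theorem allSubgroups_of_isSolvable {G : Type u} [Group G] (h : Group.IsSolvable G) :
    AllSubgroups G := fun x => ⟨⊤, by ext y; simp; infer_instance⟩

end CfsgLib.Solubilizer
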