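import Cfsg.Agent.Classical.PSLTwoSub
import Cfsg.Agent.Classical.PSLTwoTorus
import Cfsg.Agent.Classical.SmallPSL
import Cfsg.Agent.PrimeGraph.SL2Char2
import Cfsg.Agent.SL2C.SumFormula

/-!
Pairs generating solvable subgroups of SL(2,2^p), p prime.
-/

set_option autoImplicit false

namespace CfsgLib.Solubilizer

open CfsgLib.Dickson CfsgLib.SL2C Matrix OnePoint

variable {F : Type*} [Field F]

/-- A group generated by an element and an involution inverting it is solvable. -/
theorem solvable_of_inverting {G : Type*} [Group G] [Finite G] {g w : G} (hw : w * w = 1) (hinv : w * g * w⁻¹ = g⁻¹)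
    (S : Set G) (hS : ∀ s ∈ S, s ∈ Subgroup.closure ({g, w} : Set G)) : Group.IsSolvable (Subgroup.closure S) := by
  have key : ∃ D : Subgroup G, g ∈ D ∧ w ∈ D ∧ Group.IsSolvable D := by
    by_cases hwg : w ∈ Subgroup.zpowers g
    · exact ⟨Subgroup.zpowers g, Subgroup.mem_zpowers g, hwg, inferInstance⟩
    · obtain ⟨D, hg, hwD, -, ⟨e⟩⟩ := CfsgLib.Linear.PSLTwo.exists_dihedral g w hw hinv hwg
      have := CfsgLib.Linear.PSLTwo.dihedral_solvable (orderOf g)
      exact ⟨D, hg, hwD, Group.isSolvable_of_isSolvable_injective (f := e.toMonoidHom) e.injective⟩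
  obtain ⟨D, hg, hwD, hsol⟩ := key
  have hle : Subgroup.closure S ≤ D := (Subgroup.closure_le _).2 fun s hs =>
    (Subgroup.closure_le _).2 (Set.insert_subset hg (Set.singleton_subset_iff.2 hwD)) (hS s hs)
  exact Group.isSolvable_of_isSolvable_injective (f := Subgroup.inclusion hle) (Subgroup.inclusion_injective hle)

/-- The dihedral relations between two elements. -/
def Rel {G : Type*} [Group G] (a b : G) : Prop :=
  Commute a b ∨ (a * a = 1 ∧ b * b = 1) ∨ (a * a = 1 ∧ (a * b) * (a * b) = 1) ∨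
    (b * b = 1 ∧ (a * b) * (a * b) = 1)

theorem Rel.of_map {G H : Type*} [Group G] [Group H] {f : G →* H} (hf : Function.Injective f) {a b : G}
    (h : Rel (f a) (f b)) : Rel a b := by
  rcases h with h | ⟨h1, h2⟩ | ⟨h1, h2⟩ | ⟨h1, h2⟩
  · exact Or.inl (hf (by rw [map_mul, map_mul]; exact h.eq))
  all_goals simp only [← map_mul] at h1 h2
  · exact Or.inr (Or.inl ⟨(map_eq_one_iff f hf).1 h1, (map_eq_one_iff f hf).1 h2⟩)
  · exact Or.inr (Or.inr (Or.inl ⟨(map_eq_one_iff f hf).1 h1, (map_eq_one_iff f hf).1 h2⟩))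
  · exact Or.inr (Or.inr (Or.inr ⟨(map_eq_one_iff f hf).1 h1, (map_eq_one_iff f hf).1 h2⟩))

theorem Rel.solvable {G : Type*} [Group G] [Finite G] {a b : G} (h : Rel a b) :
    Group.IsSolvable (Subgroup.closure ({a, b} : Set G)) := by
  have hpair : ∀ {g w : G}, g ∈ Subgroup.closure ({g, w} : Set G) ∧ w ∈ Subgroup.closure ({g, w} : Set G) :=
    ⟨Subgroup.subset_closure (Set.mem_insert _ _), Subgroup.subset_closure (Set.mem_insert_of_mem _ rfl)⟩
  rcases h with h | ⟨h1, h2⟩ | ⟨h1, h2⟩ | ⟨h1, h2⟩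
  · haveI := Subgroup.isMulCommutative_closure (k := ({a, b} : Set G)) (by
      rintro x (rfl | rfl) y (rfl | rfl)
      exacts [rfl, h.eq, h.eq.symm, rfl])
    exact Group.isSolvable_of_comm fun x y => mul_comm' x y
  · refine solvable_of_inverting (g := a * b) (w := a) h1 ?_ _ ?_
    · rw [inv_eq_of_mul_eq_one_right h1, _root_.mul_inv_rev, inv_eq_of_mul_eq_one_right h1,
        inv_eq_of_mul_eq_one_right h2, ← mul_assoc a a, h1, one_mul]
    · rintro s (rfl | rfl)
      · exact hpair.2
      · have := mul_mem (hpair (g := a * s) (w := a)).2 (hpair (g := a * s) (w := a)).1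
        rwa [← mul_assoc, h1, one_mul] at this
  · refine solvable_of_inverting (g := b) (w := a) h1 ?_ _ ?_
    · rw [inv_eq_of_mul_eq_one_right h1, eq_inv_iff_mul_eq_one]
      simpa [mul_assoc] using h2
    · rintro s (rfl | rfl)
      · exact hpair.2
      · exact hpair.1
  · refine solvable_of_inverting (g := a) (w := b) h1 ?_ _ ?_
    · rw [inv_eq_of_mul_eq_one_right h1, eq_inv_iff_mul_eq_one]
      have h3 : a * (b * a * b) = 1 := by rw [← h2]; group
      calc b * a * b * a = a⁻¹ * (a * (b * a * b)) * a := by group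
        _ = 1 := by rw [h3]; group
    · rintro s (rfl | rfl)
      · exact hpair.1
      · exact hpair.2

theorem dihedral_rel {n : ℕ} (a b : DihedralGroup n) : Rel a b := by
  rcases a with i | i <;> rcases b with j | j
  · left
    show _ = _
    rw [DihedralGroup.r_mul_r, DihedralGroup.r_mul_r, add_comm]
  · exact Or.inr (Or.inr (Or.inr ⟨DihedralGroup.sr_mul_self j, by rw [DihedralGroup.r_mul_sr]; exact DihedralGroup.sr_mul_self _⟩))
  · exact Or.inr (Or.inr (Or.inl ⟨DihedralGroup.sr_mul_self i, by rw [DihedralGroup.sr_mul_r]; exact DihedralGroup.sr_mul_self _⟩))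
  · exact Or.inr (Or.inl ⟨DihedralGroup.sr_mul_self i, DihedralGroup.sr_mul_self j⟩)

theorem perm_three_rel : ∀ a b : Equiv.Perm (Fin 3), (a * b = b * a) ∨ (a * a = 1 ∧ b * b = 1) ∨
    (a * a = 1 ∧ (a * b) * (a * b) = 1) ∨ (b * b = 1 ∧ (a * b) * (a * b) = 1) := by decide +kernel

theorem smul_mk_infty [DecidableEq F] (A : Matrix.SpecialLinearGroup (Fin 2) F) :
    Matrix.ProjectiveSpecialLinearGroup.toPGL (QuotientGroup.mk A : PSL2 F) • (∞ : OnePoint F) = ∞ ↔
      mt A 1 0 = 0 := by
  rw [Matrix.ProjectiveSpecialLinearGroup.toPGL_mk]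
  show Matrix.SpecialLinearGroup.toGL A • (∞ : OnePoint F) = ∞ ↔ _
  rw [smul_infty_eq_self_iff]
  rfl

variable [Fintype F] [CharP F 2]

/-- Two elements generate a solvable group exactly in the reducible and the dihedral case. -/
theorem solvable_iff {p : ℕ} (hp : p.Prime) (hF : Fintype.card F = 2 ^ p) (X Y : SL F) :
    Group.IsSolvable (Subgroup.closure ({(QuotientGroup.mk X : PSL2 F), QuotientGroup.mk Y} : Set (PSL2 F))) ↔
      Rel X Y ∨ ∃ s : SL F, mt (s⁻¹ * X * s) 1 0 = 0 ∧ mt (s⁻¹ * Y * s) 1 0 = 0 := by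
  classical
  haveI : Fact (Nat.Prime 2) := ⟨Nat.prime_two⟩
  set e := CfsgLib.SL2Char2.slEquivPSL (F := F)
  have hq : 4 ≤ Nat.card F := by
    rw [Nat.card_eq_fintype_card, hF]
    exact (show 4 = 2 ^ 2 from rfl) ▸ Nat.pow_le_pow_right two_pos hp.two_le
  constructor
  · intro hsol
    set H := Subgroup.closure ({(QuotientGroup.mk X : PSL2 F), QuotientGroup.mk Y} : Set (PSL2 F))
    have hX : (QuotientGroup.mk X : PSL2 F) ∈ H := Subgroup.subset_closure (Set.mem_insert _ _)
    have hY : (QuotientGroup.mk Y : PSL2 F) ∈ H := Subgroup.subset_closure (Set.mem_insert_of_mem _ rfl)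
    have hH : H ≠ ⊤ := fun h => CfsgLib.Linear.PSLTwo.not_solvable hq (by
      rw [h] at hsol
      exact Group.isSolvable_of_isSolvable_injective (f := (Subgroup.topEquiv (G := PSL2 F)).symm.toMonoidHom)
        (MulEquiv.injective _))
    have hrel : ∀ {K : Type} [Group K] (f : H ≃* K), (∀ a b : K, Rel a b) → Rel X Y := by
      intro K _ f hK
      have h0 : Rel (⟨_, hX⟩ : H) ⟨_, hY⟩ := Rel.of_map (f := f.toMonoidHom) f.injective (hK _ _)
      refine Rel.of_map (f := e.toMonoidHom) e.injective ?_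
      rcases h0 with h | h | h | h
      · exact Or.inl (congrArg Subtype.val h.eq)
      · exact Or.inr (Or.inl ⟨congrArg Subtype.val h.1, congrArg Subtype.val h.2⟩)
      · exact Or.inr (Or.inr (Or.inl ⟨congrArg Subtype.val h.1, congrArg Subtype.val h.2⟩))
      · exact Or.inr (Or.inr (Or.inr ⟨congrArg Subtype.val h.1, congrArg Subtype.val h.2⟩))
    rcases CfsgLib.Linear.PSLTwo.proper_cases 2 H hH with ⟨P, -, hle⟩ | ⟨hc, -, -⟩ | ⟨n, -, -, -, -, ⟨f⟩⟩ |
      ⟨h, -⟩ | ⟨h, -⟩ | ⟨h, -⟩ | ⟨f, m, hf, hm, hqf, hc⟩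
    · right
      obtain ⟨w, hw⟩ := CfsgLib.Linear.PSLTwo.normalizer_eq_stabilizer 2 P
      obtain ⟨g, hg⟩ := CfsgLib.Linear.PSLTwo.exists_to w
      obtain ⟨s, rfl⟩ := QuotientGroup.mk_surjective g
      have key : ∀ Z : SL F, (QuotientGroup.mk Z : PSL2 F) ∈ H → mt (s⁻¹ * Z * s) 1 0 = 0 := by
        intro Z hZ
        have hfix : Matrix.ProjectiveSpecialLinearGroup.toPGL (QuotientGroup.mk Z : PSL2 F) • w = w := by
          have := hle hZ
          rw [hw] at this
          exact this
        rw [← smul_mk_infty, QuotientGroup.mk_mul, QuotientGroup.mk_mul, QuotientGroup.mk_inv, map_mul, map_mul,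
          mul_smul, mul_smul, hg, hfix, ← hg, map_inv, inv_smul_smul]
      exact ⟨s, key X hX, key Y hY⟩
    · left; left
      haveI := hc
      exact e.injective (by rw [map_mul, map_mul]; exact congrArg Subtype.val (mul_comm' (⟨_, hX⟩ : H) ⟨_, hY⟩))
    · exact Or.inl (hrel f dihedral_rel)
    · omega
    · omega
    · exact absurd rfl h
    · left
      have hfm : f * m = p := by
        refine Nat.pow_right_injective le_rfl ?_
        show 2 ^ (f * m) = 2 ^ p
        rw [pow_mul, ← hqf, Nat.card_eq_fintype_card, hF]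
      have hf1 : f = 1 := by
        rcases (Nat.dvd_prime hp).1 (⟨m, hfm.symm⟩ : f ∣ p) with h | h
        · exact h
        · subst h
          have : f * 2 ≤ f * m := Nat.mul_le_mul_left f hm
          have := hp.two_le
          omega
      subst hf1
      rcases hc with ⟨-, ⟨f⟩⟩ | ⟨h, -⟩
      · haveI : Fintype (GaloisField 2 1) := Fintype.ofFinite _
        have h2 : Fintype.card (GaloisField 2 1) = 2 := by
          rw [← Nat.card_eq_fintype_card, CfsgLib.Linear.PSLTwo.card_gf 2 1 le_rfl]; rfl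
        obtain ⟨eP⟩ : Nonempty (OnePoint (GaloisField 2 1) ≃ Fin 3) :=
          ⟨Fintype.equivFinOfCardEq (by rw [← Nat.card_eq_fintype_card]; change Nat.card (Option (GaloisField 2 1)) = _; rw [Finite.card_option, Nat.card_eq_fintype_card, h2])⟩
        refine hrel f fun a b => Rel.of_map (f := eP.permCongrHom.toMonoidHom.comp (CfsgLib.Linear.Small.pglPerm _))
          (eP.permCongrHom.injective.comp CfsgLib.Linear.Small.pglPerm_injective) ?_
        exact perm_three_rel _ _
      · exact absurd rfl h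
  · rintro (h | ⟨s, hX, hY⟩)
    · refine Rel.solvable ?_
      rcases h with h | ⟨h1, h2⟩ | ⟨h1, h2⟩ | ⟨h1, h2⟩
      · exact Or.inl (h.map e.toMonoidHom)
      all_goals
        have f1 := congrArg e h1
        have f2 := congrArg e h2
        simp only [map_mul, map_one] at f1 f2
      · exact Or.inr (Or.inl ⟨f1, f2⟩)
      · exact Or.inr (Or.inr (Or.inl ⟨f1, f2⟩))
      · exact Or.inr (Or.inr (Or.inr ⟨f1, f2⟩))
    · set w : OnePoint F := Matrix.ProjectiveSpecialLinearGroup.toPGL (QuotientGroup.mk s : PSL2 F) • (∞ : OnePoint F)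
      refine CfsgLib.Linear.PSLTwo.stabilizer_solvable w _ fun g hg => ?_
      have key : ∀ Z : SL F, mt (s⁻¹ * Z * s) 1 0 = 0 →
          Matrix.ProjectiveSpecialLinearGroup.toPGL (QuotientGroup.mk Z : PSL2 F) • w = w := by
        intro Z hZ
        rw [← smul_mk_infty, QuotientGroup.mk_mul, QuotientGroup.mk_mul, QuotientGroup.mk_inv, map_mul, map_mul,
          mul_smul, mul_smul, map_inv, inv_smul_eq_iff] at hZ
        exact hZ
      induction hg using Subgroup.closure_induction with
      | mem z hz =>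
        rcases hz with rfl | rfl
        · exact key X hX
        · exact key Y hY
      | one => rw [map_one, one_smul]
      | mul u v _ _ hu hv => rw [map_mul, mul_smul, hv, hu]
      | inv u _ hu => rw [map_inv, inv_smul_eq_iff, hu]

end CfsgLib.Solubilizer
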