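import Cfsg.Agent.Solubilizer.Even

/-!
Tetrahedral pairs, and the solvable pairs in PSL(2,3^p).
-/

set_option autoImplicit false

namespace CfsgLib.Solubilizer

open CfsgLib.Dickson CfsgLib.SL2C Matrix OnePoint

theorem tetra_solvable {G : Type*} [Group G] {a b : G} (h1 : a * a = 1) (h2 : b * b * b = 1)
    (h3 : (a * b) * (a * b) * (a * b) = 1) {S : Set G} (hS : ∀ s ∈ S, s ∈ Subgroup.closure ({a, b} : Set G)) :
    Group.IsSolvable (Subgroup.closure S) := by
  have hai : a⁻¹ = a := inv_eq_of_mul_eq_one_right h1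
  have hbi : b⁻¹ = b * b := inv_eq_of_mul_eq_one_right (by rw [← mul_assoc]; exact h2)
  set c := b * a * b⁻¹ with hc
  have hd : b * c * b⁻¹ = c * a := by
    have e : a * c * (b * c * b⁻¹) = (a * b) * (a * b) * (a * b) * (b * b * b)⁻¹ := by rw [hc]; group
    rw [h3, h2, inv_one, mul_one] at e
    have hci : c⁻¹ = c := by rw [hc, _root_.mul_inv_rev, _root_.mul_inv_rev, inv_inv, hai, mul_assoc]
    rw [eq_inv_of_mul_eq_one_right e, _root_.mul_inv_rev, hci, hai]
  have hcc : c * c = 1 := by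
    rw [hc, show b * a * b⁻¹ * (b * a * b⁻¹) = b * (a * a) * b⁻¹ by group, h1]; group
  have hac : a * c = c * a := by
    have e : (c * a) * (c * a) = 1 := by
      rw [← hd, show b * c * b⁻¹ * (b * c * b⁻¹) = b * (c * c) * b⁻¹ by group, hcc]; group
    calc a * c = (c * c) * (a * c) * (a * a) := by rw [hcc, h1, one_mul, mul_one]
      _ = c * ((c * a) * (c * a)) * a := by simp only [mul_assoc]
      _ = c * a := by rw [e, mul_one]
  set H := Subgroup.closure ({a, b} : Set G)
  set V := Subgroup.closure ({a, c} : Set G)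
  haveI := Subgroup.isMulCommutative_closure (k := ({a, c} : Set G)) (by
    rintro x (rfl | rfl) y (rfl | rfl)
    exacts [rfl, hac, hac.symm, rfl])
  have hVa : a ∈ V := Subgroup.subset_closure (Set.mem_insert _ _)
  have hVc : c ∈ V := Subgroup.subset_closure (Set.mem_insert_of_mem _ rfl)
  have stab : ∀ g : G, g * a * g⁻¹ ∈ V → g * c * g⁻¹ ∈ V → ∀ v ∈ V, g * v * g⁻¹ ∈ V := by
    intro g ha hc' v hv
    induction hv using Subgroup.closure_induction with
    | mem z hz => rcases hz with rfl | rfl <;> assumption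
    | one => simpa using one_mem V
    | mul u w _ _ hu hw =>
      rw [show g * (u * w) * g⁻¹ = (g * u * g⁻¹) * (g * w * g⁻¹) by group]; exact mul_mem hu hw
    | inv u _ hu => rw [show g * u⁻¹ * g⁻¹ = (g * u * g⁻¹)⁻¹ by group]; exact inv_mem hu
  have hbV : ∀ v ∈ V, b * v * b⁻¹ ∈ V := stab b (by rw [← hc]; exact hVc) (by rw [hd]; exact mul_mem hVc hVa)
  have hnorm : ∀ g ∈ H, ∀ v ∈ V, g * v * g⁻¹ ∈ V ∧ g⁻¹ * v * g ∈ V := by
    intro g hg
    induction hg using Subgroup.closure_induction with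
    | mem z hz =>
      intro v hv
      rcases hz with rfl | rfl
      · exact ⟨mul_mem (mul_mem hVa hv) (inv_mem hVa), mul_mem (mul_mem (inv_mem hVa) hv) hVa⟩
      · refine ⟨hbV v hv, ?_⟩
        rw [show z⁻¹ * v * z = z * (z * v * z⁻¹) * z⁻¹ by
          rw [show z * (z * v * z⁻¹) * z⁻¹ = (z * z) * v * (z * z)⁻¹ by group, ← hbi, inv_inv]]
        exact hbV _ (hbV v hv)
    | one => intro v hv; simpa using hv
    | mul u w _ _ hu hw =>
      intro v hv
      constructor
      · rw [show u * w * v * (u * w)⁻¹ = u * (w * v * w⁻¹) * u⁻¹ by group]; exact (hu _ (hw v hv).1).1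
      · rw [show (u * w)⁻¹ * v * (u * w) = w⁻¹ * (u⁻¹ * v * u) * w by group]; exact (hw _ (hu v hv).2).2
    | inv u _ hu =>
      intro v hv
      exact ⟨by rw [inv_inv]; exact (hu v hv).2, by rw [inv_inv]; exact (hu v hv).1⟩
  haveI hN : (V.subgroupOf H).Normal := ⟨fun v hv g => (hnorm g g.2 v hv).1⟩
  haveI hVsol : Group.IsSolvable (V.subgroupOf H) :=
    Group.isSolvable_of_comm fun x y => Subtype.ext (Subtype.ext
      (congrArg (Subtype.val : V → G) (mul_comm' (⟨(x.1 : G), x.2⟩ : V) ⟨(y.1 : G), y.2⟩)))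
  have hQsol : Group.IsSolvable (H ⧸ V.subgroupOf H) := by
    set π := QuotientGroup.mk' (V.subgroupOf H)
    set bH : H := ⟨b, Subgroup.subset_closure (Set.mem_insert_of_mem _ rfl)⟩
    have hgen : ∀ g (hg : g ∈ H), π ⟨g, hg⟩ ∈ Subgroup.zpowers (π bH) := by
      intro g hg
      induction hg using Subgroup.closure_induction with
      | mem z hz =>
        rcases hz with rfl | rfl
        · rw [(QuotientGroup.eq_one_iff _).2 (show (⟨z, Subgroup.subset_closure (Set.mem_insert _ _)⟩ : H) ∈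
            V.subgroupOf H from hVa) |> fun h => (show π ⟨z, _⟩ = 1 from h)]
          exact one_mem _
        · exact Subgroup.mem_zpowers _
      | one => exact (map_one π).symm ▸ one_mem (Subgroup.zpowers (π bH))
      | mul u w hu' hw' hu hw =>
        rw [show (⟨u * w, mul_mem hu' hw'⟩ : H) = ⟨u, hu'⟩ * ⟨w, hw'⟩ from rfl, map_mul]; exact mul_mem hu hw
      | inv u hu' hu =>
        rw [show (⟨u⁻¹, inv_mem hu'⟩ : H) = ⟨u, hu'⟩⁻¹ from rfl, map_inv]; exact inv_mem hu
    refine Group.isSolvable_of_comm fun x y => ?_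
    obtain ⟨x, rfl⟩ := QuotientGroup.mk'_surjective (V.subgroupOf H) x
    obtain ⟨y, rfl⟩ := QuotientGroup.mk'_surjective (V.subgroupOf H) y
    obtain ⟨m, hm⟩ := Subgroup.mem_zpowers_iff.1 (hgen x.1 x.2)
    obtain ⟨n, hn⟩ := Subgroup.mem_zpowers_iff.1 (hgen y.1 y.2)
    rw [show π x = π bH ^ m from hm.symm, show π y = π bH ^ n from hn.symm, ← _root_.zpow_add, ← _root_.zpow_add, add_comm]
  have hH : Group.IsSolvable H :=
    Group.isSolvable_of_ker_le_range (f := (V.subgroupOf H).subtype) (g := QuotientGroup.mk' (V.subgroupOf H))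
      (by rw [QuotientGroup.ker_mk', Subgroup.range_subtype])
  have hle : Subgroup.closure S ≤ H := (Subgroup.closure_le _).2 hS
  exact Group.isSolvable_of_isSolvable_injective (f := Subgroup.inclusion hle) (Subgroup.inclusion_injective hle)

/-- The tetrahedral relations between two elements. -/
def Rel3 {G : Type*} [Group G] (a b : G) : Prop :=
  (a * a = 1 ∧ b * b * b = 1 ∧ (a * b) * (a * b) * (a * b) = 1) ∨
    (b * b = 1 ∧ a * a * a = 1 ∧ (a * b) * (a * b) * (a * b) = 1) ∨
    (a * a * a = 1 ∧ b * b * b = 1 ∧ ((a * b) * (a * b) = 1 ∨ (a⁻¹ * b) * (a⁻¹ * b) = 1))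

theorem Rel3.of_map {G H : Type*} [Group G] [Group H] {f : G →* H} (hf : Function.Injective f) {a b : G}
    (h : Rel3 (f a) (f b)) : Rel3 a b := by
  simpa only [Rel3, ← map_inv, ← map_mul, map_eq_one_iff f hf] using h

theorem Rel3.solvable {G : Type*} [Group G] {a b : G} (h : Rel3 a b) :
    Group.IsSolvable (Subgroup.closure ({a, b} : Set G)) := by
  have hp : ∀ {g w : G}, g ∈ Subgroup.closure ({g, w} : Set G) ∧ w ∈ Subgroup.closure ({g, w} : Set G) :=
    ⟨Subgroup.subset_closure (Set.mem_insert _ _), Subgroup.subset_closure (Set.mem_insert_of_mem _ rfl)⟩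
  rcases h with ⟨h1, h2, h3⟩ | ⟨h1, h2, h3⟩ | ⟨h1, h2, h3 | h3⟩
  · exact tetra_solvable h1 h2 h3 fun s hs => Subgroup.subset_closure hs
  · refine tetra_solvable (a := b) (b := a) h1 h2 ?_ ?_
    · calc b * a * (b * a) * (b * a) = a⁻¹ * (a * b * (a * b) * (a * b)) * a := by group
        _ = 1 := by rw [h3]; group
    · rintro s (rfl | rfl)
      exacts [hp.2, hp.1]
  · refine tetra_solvable (a := a * b) (b := a) h3 h1 ?_ ?_
    · have hb : b⁻¹ = b * b := inv_eq_of_mul_eq_one_right (by rw [← mul_assoc]; exact h2)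
      have hba : (b * a) * (b * a) = 1 := by
        calc b * a * (b * a) = a⁻¹ * (a * b * (a * b)) * a := by group
          _ = 1 := by rw [h3]; group
      have e : a * b * a = b⁻¹ := eq_inv_of_mul_eq_one_left (by rw [← h3]; group)
      rw [e, hb]
      simp only [← mul_assoc]
      rw [h2, one_mul, h2]
    · rintro s (rfl | rfl)
      · exact hp.2
      · have h := mul_mem (inv_mem (hp (g := a * s) (w := a)).2) (hp (g := a * s) (w := a)).1
        rwa [inv_mul_cancel_left] at h
  · refine tetra_solvable (a := a⁻¹ * b) (b := a⁻¹) h3 ?_ ?_ ?_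
    · rw [show a⁻¹ * a⁻¹ * a⁻¹ = (a * a * a)⁻¹ by group, h1, inv_one]
    · have hb : b⁻¹ = b * b := inv_eq_of_mul_eq_one_right (by rw [← mul_assoc]; exact h2)
      have e : a⁻¹ * b * a⁻¹ = b⁻¹ := eq_inv_of_mul_eq_one_left (by rw [← h3]; group)
      rw [e, hb]
      simp only [← mul_assoc]
      rw [h2, one_mul, h2]
    · rintro s (rfl | rfl)
      · have h := inv_mem (hp (g := s⁻¹ * b) (w := s⁻¹)).2
        rwa [inv_inv] at h
      · have h := mul_mem (inv_mem (hp (g := a⁻¹ * s) (w := a⁻¹)).2) (hp (g := a⁻¹ * s) (w := a⁻¹)).1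
        rwa [inv_inv, mul_inv_cancel_left] at h

set_option synthInstance.maxSize 2000 in
theorem alt_four_rel : ∀ a b : alternatingGroup (Fin 4), (a * b = b * a) ∨ (a * a = 1 ∧ b * b = 1) ∨
    (a * a = 1 ∧ (a * b) * (a * b) = 1) ∨ (b * b = 1 ∧ (a * b) * (a * b) = 1) ∨
    (a * a = 1 ∧ b * b * b = 1 ∧ (a * b) * (a * b) * (a * b) = 1) ∨
    (b * b = 1 ∧ a * a * a = 1 ∧ (a * b) * (a * b) * (a * b) = 1) ∨
    (a * a * a = 1 ∧ b * b * b = 1 ∧ ((a * b) * (a * b) = 1 ∨ (a⁻¹ * b) * (a⁻¹ * b) = 1)) := by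
  decide +kernel

theorem dvd_impossible {p : ℕ} (hodd : Odd p) {N : ℕ} (hN : 2 * N = 3 ^ p * ((3 ^ p) ^ 2 - 1)) :
    ¬ 8 ∣ N ∧ ¬ 5 ∣ N := by
  obtain ⟨k, rfl⟩ := hodd
  have h16 : (3 ^ (2 * k + 1)) ^ 2 % 16 = 9 := by
    rw [← pow_mul, show (2 * k + 1) * 2 = 4 * k + 2 by ring, pow_add, pow_mul, Nat.mul_mod, Nat.pow_mod]
    norm_num
  have h5 : (3 ^ (2 * k + 1)) ^ 2 % 5 = 4 := by
    rw [← pow_mul, show (2 * k + 1) * 2 = 4 * k + 2 by ring, pow_add, pow_mul, Nat.mul_mod, Nat.pow_mod]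
    norm_num
  constructor
  · intro h
    have h2 : 16 ∣ 3 ^ (2 * k + 1) * ((3 ^ (2 * k + 1)) ^ 2 - 1) := by rw [← hN]; omega
    have := (Nat.Coprime.pow_right (2 * k + 1) (by norm_num : Nat.Coprime 16 3)).dvd_of_dvd_mul_left h2
    omega
  · intro h
    have h2 : 5 ∣ 3 ^ (2 * k + 1) * ((3 ^ (2 * k + 1)) ^ 2 - 1) := by rw [← hN]; omega
    have := (Nat.Coprime.pow_right (2 * k + 1) (by norm_num : Nat.Coprime 5 3)).dvd_of_dvd_mul_left h2
    omega

variable {F : Type*} [Field F] [Fintype F] [CharP F 3]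

/-- Two elements generate a solvable group exactly in the reducible, dihedral and tetrahedral case. -/
theorem solvable_iff_three {p : ℕ} (hp : p.Prime) (hodd : Odd p) (hF : Fintype.card F = 3 ^ p) (X Y : SL F) :
    Group.IsSolvable (Subgroup.closure ({(QuotientGroup.mk X : PSL2 F), QuotientGroup.mk Y} : Set (PSL2 F))) ↔
      (Rel (QuotientGroup.mk X : PSL2 F) (QuotientGroup.mk Y) ∨
        Rel3 (QuotientGroup.mk X : PSL2 F) (QuotientGroup.mk Y)) ∨
        ∃ s : SL F, mt (s⁻¹ * X * s) 1 0 = 0 ∧ mt (s⁻¹ * Y * s) 1 0 = 0 := by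
  classical
  haveI : Fact (Nat.Prime 3) := ⟨Nat.prime_three⟩
  have hq : 4 ≤ Nat.card F := by
    rw [Nat.card_eq_fintype_card, hF]
    exact (show 4 ≤ 3 ^ 2 by norm_num).trans (Nat.pow_le_pow_right (by norm_num) hp.two_le)
  constructor
  · intro hsol
    set H := Subgroup.closure ({(QuotientGroup.mk X : PSL2 F), QuotientGroup.mk Y} : Set (PSL2 F))
    have hX : (QuotientGroup.mk X : PSL2 F) ∈ H := Subgroup.subset_closure (Set.mem_insert _ _)
    have hY : (QuotientGroup.mk Y : PSL2 F) ∈ H := Subgroup.subset_closure (Set.mem_insert_of_mem _ rfl)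
    have hH : H ≠ ⊤ := fun h => CfsgLib.Linear.PSLTwo.not_solvable hq (by
      rw [h] at hsol
      exact Group.isSolvable_of_isSolvable_injective (f := (Subgroup.topEquiv (G := PSL2 F)).symm.toMonoidHom)
        (MulEquiv.injective _))
    have hrel : ∀ {K : Type} [Group K] (f : H ≃* K), (∀ a b : K, Rel a b ∨ Rel3 a b) →
        Rel (QuotientGroup.mk X : PSL2 F) (QuotientGroup.mk Y) ∨
          Rel3 (QuotientGroup.mk X : PSL2 F) (QuotientGroup.mk Y) := by
      intro K _ f hK
      rcases hK (f ⟨_, hX⟩) (f ⟨_, hY⟩) with h | h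
      · rcases Rel.of_map (f := f.toMonoidHom) f.injective h with h | h | h | h
        · exact Or.inl (Or.inl (congrArg Subtype.val h.eq))
        · exact Or.inl (Or.inr (Or.inl ⟨congrArg Subtype.val h.1, congrArg Subtype.val h.2⟩))
        · exact Or.inl (Or.inr (Or.inr (Or.inl ⟨congrArg Subtype.val h.1, congrArg Subtype.val h.2⟩)))
        · exact Or.inl (Or.inr (Or.inr (Or.inr ⟨congrArg Subtype.val h.1, congrArg Subtype.val h.2⟩)))
      · right
        rcases Rel3.of_map (f := f.toMonoidHom) f.injective h with h | h | ⟨h1, h2, h3⟩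
        · exact Or.inl ⟨congrArg Subtype.val h.1, congrArg Subtype.val h.2.1, congrArg Subtype.val h.2.2⟩
        · exact Or.inr (Or.inl ⟨congrArg Subtype.val h.1, congrArg Subtype.val h.2.1, congrArg Subtype.val h.2.2⟩)
        · exact Or.inr (Or.inr ⟨congrArg Subtype.val h1, congrArg Subtype.val h2,
            h3.imp (congrArg Subtype.val) (congrArg Subtype.val)⟩)
    have hcard : 2 * Nat.card (PSL2 F) = 3 ^ p * ((3 ^ p) ^ 2 - 1) := by
      rw [CfsgLib.Linear.PSLTwo.two_mul_card_psl F, Nat.card_eq_fintype_card, hF]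
      rw [Nat.card_eq_fintype_card, hF]
      exact Odd.pow (by decide)
    have hdvd : Nat.card H ∣ Nat.card (PSL2 F) := Subgroup.card_subgroup_dvd_card H
    obtain ⟨h8, h5⟩ := dvd_impossible hodd hcard
    rcases CfsgLib.Linear.PSLTwo.proper_cases 3 H hH with ⟨P, -, hle⟩ | ⟨hc, -, -⟩ | ⟨n, -, -, -, -, ⟨f⟩⟩ |
      ⟨h, -⟩ | ⟨h, -⟩ | ⟨-, -, h, -⟩ | ⟨f, m, hf, hm, hqf, hc⟩
    · right
      obtain ⟨w, hw⟩ := CfsgLib.Linear.PSLTwo.normalizer_eq_stabilizer 3 P
      obtain ⟨g, hg⟩ := CfsgLib.Linear.PSLTwo.exists_to w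
      obtain ⟨s, rfl⟩ := QuotientGroup.mk_surjective g
      have key : ∀ Z : SL F, (QuotientGroup.mk Z : PSL2 F) ∈ H → mt (s⁻¹ * Z * s) 1 0 = 0 := by
        intro Z hZ
        have hfix : Matrix.ProjectiveSpecialLinearGroup.toPGL (QuotientGroup.mk Z : PSL2 F) • w = w := by
          have := hle hZ
          rw [hw] at this
          exact this
        rw [← smul_mk_infty, QuotientGroup.mk_mul, QuotientGroup.mk_mul, QuotientGroup.mk_inv, map_mul, map_mul,
          mul_smul, mul_smul, hg, hfix, ← hg, map_inv, inv_smul_smul]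
      exact ⟨s, key X hX, key Y hY⟩
    · left; left; left
      haveI := hc
      exact congrArg Subtype.val (mul_comm' (⟨_, hX⟩ : H) ⟨_, hY⟩)
    · exact Or.inl (hrel f fun a b => Or.inl (dihedral_rel a b))
    · omega
    · omega
    · rw [h] at hdvd; exact absurd ((show 5 ∣ 60 by norm_num).trans hdvd) h5
    · left
      have hfm : f * m = p := by
        refine Nat.pow_right_injective (show 2 ≤ 3 by norm_num) ?_
        show 3 ^ (f * m) = 3 ^ p
        rw [pow_mul, ← hqf, Nat.card_eq_fintype_card, hF]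
      have hf1 : f = 1 := by
        rcases (Nat.dvd_prime hp).1 (⟨m, hfm.symm⟩ : f ∣ p) with h | h
        · exact h
        · subst h
          have : f * 2 ≤ f * m := Nat.mul_le_mul_left f hm
          have := hp.two_le
          omega
      subst hf1
      rcases hc with ⟨h, -⟩ | ⟨-, -, ⟨f⟩⟩
      · norm_num at h
        exact absurd ((show 8 ∣ 24 by norm_num).trans (by rwa [Nat.card_eq_fintype_card (α := H), h] at hdvd)) h8
      · haveI : Fintype (GaloisField 3 1) := Fintype.ofFinite _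
        have h3 : Fintype.card (GaloisField 3 1) = 3 := by
          rw [← Nat.card_eq_fintype_card, CfsgLib.Linear.PSLTwo.card_gf 3 1 le_rfl]; rfl
        obtain ⟨g⟩ := CfsgLib.Linear.Small.nonempty_psl_two_three h3
        refine hrel (f.trans g) fun a b => ?_
        rcases alt_four_rel a b with h | h | h | h | h | h | h
        exacts [Or.inl (Or.inl h), Or.inl (Or.inr (Or.inl h)), Or.inl (Or.inr (Or.inr (Or.inl h))),
          Or.inl (Or.inr (Or.inr (Or.inr h))), Or.inr (Or.inl h), Or.inr (Or.inr (Or.inl h)), Or.inr (Or.inr (Or.inr h))]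
  · rintro ((h | h) | ⟨s, hX, hY⟩)
    · exact h.solvable
    · exact h.solvable
    · set w : OnePoint F := Matrix.ProjectiveSpecialLinearGroup.toPGL (QuotientGroup.mk s : PSL2 F) • (∞ : OnePoint F)
      refine CfsgLib.Linear.PSLTwo.stabilizer_solvable w _ fun g hg => ?_
      have key : ∀ Z : SL F, mt (s⁻¹ * Z * s) 1 0 = 0 →
          Matrix.ProjectiveSpecialLinearGroup.toPGL (QuotientGroup.mk Z : PSL2 F) • w = w := by
        intro Z hZ
        rw [← smul_mk_infty, QuotientGroup.mk_mul, QuotientGroup.mk_mul, QuotientGroup.mk_inv, map_mul, map_mul,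
          mul_smul, mul_smul, map_inv, inv_smul_eq_iff] at hZ
        exact hZ
      induction hg using Subgroup.closure_induction with
      | mem z hz =>
        rcases hz with rfl | rfl
        · exact key X hX
        · exact key Y hY
      | one => rw [map_one, one_smul]
      | mul u v _ _ hu hv => rw [map_mul, mul_smul, hv, hu]
      | inv u _ hu => rw [map_inv, inv_smul_eq_iff, hu]

end CfsgLib.Solubilizer
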