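import Cfsg.Agent.Solubilizer.ThreeRel

/-!
The sets of solvable partners in SL(2,3^p).
-/

set_option autoImplicit false

namespace CfsgLib.Solubilizer

open CfsgLib.Dickson CfsgLib.SL2C Matrix

variable {F : Type*} [Field F] [Fintype F] [CharP F 3]

/-- The solvable pairs, in matrices. -/
def Sol3 (X Y : SL F) : Prop :=
  (X * Y = Y * X ∨ TC (mt X).trace (mt Y).trace (mt (X * Y)).trace) ∨
    ∃ s : SL F, mt (s⁻¹ * X * s) 1 0 = 0 ∧ mt (s⁻¹ * Y * s) 1 0 = 0

theorem sol3_par {e : Fˣ} {b : F} (he : e = 1) (hb : b ≠ 0) (Y : SL F) : Sol3 (bor e b) Y ↔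
    mt Y 1 0 = 0 ∨ ((b * mt Y 1 0) ^ 2 = 1 ∧ (mt Y 0 0 + mt Y 1 1) ^ 3 = mt Y 0 0 + mt Y 1 1) := by
  subst he
  have three := three_zero (F := F)
  have hs : (mt (bor (1 : Fˣ) b)).trace = -1 := by
    rw [trace_mt_bor]; simp; linear_combination three
  have hv : (mt (bor (1 : Fˣ) b * Y)).trace = (mt Y 0 0 + mt Y 1 1) + b * mt Y 1 0 := by
    rw [mt_mul, Matrix.trace_fin_two, Matrix.mul_apply, Matrix.mul_apply, Fin.sum_univ_two, Fin.sum_univ_two]
    simp [mt_bor]; ring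
  constructor
  · rintro ((h | h) | ⟨s, h1, h2⟩)
    · left
      have h0 := congrFun (congrFun (congrArg SL2C.mt h) 0) 0
      simp [mt_mul, mt_bor, Matrix.mul_apply, Fin.sum_univ_two] at h0
      exact h0.resolve_left hb
    · rw [TC, hs, hv, Matrix.trace_fin_two] at h
      generalize hu : mt Y 0 0 + mt Y 1 1 = u at h ⊢
      rcases h with ⟨h, -⟩ | ⟨h, -⟩ | ⟨h1, h2⟩ | ⟨h, -⟩ | ⟨h1, -, h3⟩ | ⟨-, h2, h3⟩
      · simp at h
      · simp at h
      · left
        exact (mul_eq_zero.1 (show b * mt Y 1 0 = 0 by linear_combination h2 - h1)).resolve_left hb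
      · simp at h
      · right
        rw [h1, zero_add] at h3
        exact ⟨h3, by rw [h1]; ring⟩
      · right
        refine ⟨?_, by linear_combination u * h2⟩
        rcases h3 with h3 | h3
        · linear_combination h2 + (b * mt Y 1 0 - u) * h3
        · linear_combination h2 + (-(b * mt Y 1 0) + 2 * u) * h3 + u ^ 2 * three
    · left
      rw [conj_entry] at h1 h2
      simp [mt_bor] at h1
      have hu : mt s 1 0 = 0 := by
        have : b * mt s 1 0 ^ 2 = 0 := by linear_combination -h1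
        simpa [hb] using this
      have hd := det_mt s
      rw [Matrix.det_fin_two, hu] at hd
      have hp0 : mt s 0 0 ≠ 0 := fun e => by simp [e] at hd
      rw [hu] at h2
      simpa [hp0] using h2
  · rintro (h | ⟨h1, h2⟩)
    · exact Or.inr ⟨1, by rw [conj_entry]; simp [mt_bor, mt_one], by rw [conj_entry]; simp [mt_one, h]⟩
    · refine Or.inl (Or.inr ?_)
      rw [TC, hs, hv, Matrix.trace_fin_two]
      generalize hu : mt Y 0 0 + mt Y 1 1 = u at h2 ⊢
      by_cases hu0 : u = 0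
      · exact Or.inr (Or.inr (Or.inr (Or.inr (Or.inl ⟨hu0, by ring, by rw [hu0, zero_add]; exact h1⟩))))
      · have hu2 : u ^ 2 = 1 := by
          have : u * (u ^ 2 - 1) = 0 := by linear_combination h2
          linear_combination (mul_eq_zero.1 this).resolve_left hu0
        refine Or.inr (Or.inr (Or.inr (Or.inr (Or.inr ⟨by ring, hu2, ?_⟩))))
        have : (u + b * mt Y 1 0) * (b * mt Y 1 0 - u) = 0 := by linear_combination h1 - hu2
        rcases mul_eq_zero.1 this with h3 | h3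
        · exact Or.inl h3
        · exact Or.inr (by linear_combination -h3 - u * three)

theorem card_cube_fix : Nat.card {u : F // u ^ 3 = u} = 3 := by
  classical
  rw [Nat.card_eq_fintype_card, Fintype.card_subtype]
  rw [show (Finset.univ.filter fun u : F => u ^ 3 = u) = {0, 1, -1} by
    ext u
    simp only [Finset.mem_filter, Finset.mem_univ, true_and, Finset.mem_insert, Finset.mem_singleton]
    constructor
    · intro h
      rcases mul_eq_zero.1 (show u * (u ^ 2 - 1) = 0 by linear_combination h) with h | h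
      · exact Or.inl h
      · exact Or.inr (sq_eq_one_iff.1 (sub_eq_zero.1 h))
    · rintro (rfl | rfl | rfl) <;> ring]
  have : (1 : F) ≠ -1 := fun h => two_ne (F := F) (by linear_combination h)
  simp [this]

theorem card_sq_one {b : F} (hb : b ≠ 0) : Nat.card {c : Fˣ // (b * (c : F)) ^ 2 = 1} = 2 := by
  classical
  rw [Nat.card_eq_fintype_card, Fintype.card_subtype]
  set u : Fˣ := (Units.mk0 b hb)⁻¹
  rw [show (Finset.univ.filter fun c : Fˣ => (b * (c : F)) ^ 2 = 1) = {u, -u} by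
    ext c
    simp only [Finset.mem_filter, Finset.mem_univ, true_and, Finset.mem_insert, Finset.mem_singleton, sq_eq_one_iff]
    constructor
    · rintro (h | h)
      · exact Or.inl (Units.ext (by simp [u]; field_simp; linear_combination h))
      · exact Or.inr (Units.ext (by simp [u]; field_simp; linear_combination h))
    · rintro (rfl | rfl) <;> simp [u, hb]]
  exact Finset.card_pair fun h => two_ne (F := F) (by
    have h1 := congrArg (fun c : Fˣ => b * (c : F)) h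
    simp [u, hb] at h1
    linear_combination h1)

theorem ncard_sol3_par {b : F} (hb : b ≠ 0) :
    {Y : SL F | Sol3 (bor 1 b) Y}.ncard = Fintype.card F * (Fintype.card F + 5) := by
  classical
  have he : {Y : SL F | Sol3 (bor 1 b) Y} = {Y : SL F | mt Y 1 0 = 0} ∪
      {Y : SL F | (b * mt Y 1 0) ^ 2 = 1 ∧ (mt Y 0 0 + mt Y 1 1) ^ 3 = mt Y 0 0 + mt Y 1 1} := by
    ext Y
    simp only [Set.mem_setOf_eq, Set.mem_union, sol3_par rfl hb]
  have c2 : {Y : SL F | (b * mt Y 1 0) ^ 2 = 1 ∧ (mt Y 0 0 + mt Y 1 1) ^ 3 = mt Y 0 0 + mt Y 1 1}.ncard =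
      2 * (3 * Fintype.card F) := by
    choose f h0 h1 h2 using fun z : {c : Fˣ // (b * (c : F)) ^ 2 = 1} × {u : F // u ^ 3 = u} × F =>
      exists_of_low (F := F) z.1.1.ne_zero z.2.2 (z.2.1.1 - z.2.2)
    rw [← Nat.card_coe_set_eq, ← Nat.card_eq_of_bijective
      (fun z => (⟨f z, by rw [h1]; exact z.1.2, by rw [h0, h2, add_sub_cancel]; exact z.2.1.2⟩ :
        {Y : SL F | (b * mt Y 1 0) ^ 2 = 1 ∧ (mt Y 0 0 + mt Y 1 1) ^ 3 = mt Y 0 0 + mt Y 1 1}))
      ⟨fun z w h => ?_, fun Y => ?_⟩]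
    · rw [Nat.card_prod, Nat.card_prod, card_sq_one hb, card_cube_fix, Nat.card_eq_fintype_card]
    · have e := congrArg Subtype.val h
      have e0 : z.2.2 = w.2.2 := by
        rw [← h0 z, ← h0 w]; exact congrArg (fun Y : SL F => mt Y 0 0) e
      refine Prod.ext (Subtype.ext (Units.ext ?_)) (Prod.ext (Subtype.ext ?_) e0)
      · rw [← h1 z, ← h1 w]; exact congrArg (fun Y : SL F => mt Y 1 0) e
      · have e2 : z.2.1.1 - z.2.2 = w.2.1.1 - w.2.2 := by
          rw [← h2 z, ← h2 w]; exact congrArg (fun Y : SL F => mt Y 1 1) e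
        linear_combination e2 + e0
    · have hc : mt Y.1 1 0 ≠ 0 := fun e => by
        have h : (b * mt Y.1 1 0) ^ 2 = 1 := Y.2.1
        simp [e] at h
      refine ⟨(⟨Units.mk0 _ hc, Y.2.1⟩, ⟨mt Y.1 0 0 + mt Y.1 1 1, Y.2.2⟩, mt Y.1 0 0),
        Subtype.ext (ext_of_low ?_ (h0 _) (h1 _) ?_)⟩
      · rw [h1]; exact hc
      · rw [h2, add_sub_cancel_left]
  rw [he, Set.ncard_union_eq ?_, ncard_upper, c2]
  · obtain ⟨n, hn⟩ : ∃ n, Fintype.card F = n + 1 := ⟨Fintype.card F - 1, by have := Fintype.card_pos (α := F); omega⟩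
    rw [hn, Nat.add_sub_cancel]
    ring
  · refine Set.disjoint_left.2 fun Y h1 h2 => ?_
    have h : (b * mt Y 1 0) ^ 2 = 1 := h2.1
    simp [show mt Y 1 0 = 0 from h1] at h

theorem tc_generic {s u v : F} (hs0 : s ≠ 0) (hs1 : s ^ 2 ≠ 1) : TC s u v ↔ (u = 0 ∧ v = 0) := by
  constructor
  · rintro (⟨h, -⟩ | ⟨h, -⟩ | h | ⟨h, -⟩ | ⟨-, h, -⟩ | ⟨h, -⟩)
    all_goals first | exact h | exact absurd h hs0 | exact absurd h hs1
  · exact fun h => Or.inr (Or.inr (Or.inl h))

theorem sol3_dg {a : Fˣ} (ha : a * a ≠ 1) (hs0 : (mt (dg a)).trace ≠ 0) (hs1 : (mt (dg a)).trace ^ 2 ≠ 1)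
    (Y : SL F) : Sol3 (dg a) Y ↔ mt Y 1 0 = 0 ∨ mt Y 0 1 = 0 ∨ (mt Y 0 0 = 0 ∧ mt Y 1 1 = 0) := by
  have hne : ((a⁻¹ : Fˣ) : F) - (a : F) ≠ 0 := fun e =>
    ha (inv_eq_iff_mul_eq_one.1 (Units.ext (sub_eq_zero.1 e)))
  rw [Sol3, tc_generic hs0 hs1]
  constructor
  · rintro ((h | ⟨h, h'⟩) | ⟨s, h1, h2⟩)
    · left
      have h0 := congrFun (congrFun (congrArg SL2C.mt h) 1) 0
      simp [mt_mul, mt_dg, Matrix.mul_apply, Fin.sum_univ_two] at h0
      exact (mul_eq_zero.1 (show (((a⁻¹ : Fˣ) : F) - (a : F)) * mt Y 1 0 = 0 by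
        rw [Units.val_inv_eq_inv_val]; linear_combination h0)).resolve_left hne
    · right; right
      rw [Matrix.trace_fin_two] at h
      rw [mt_mul, Matrix.trace_fin_two, Matrix.mul_apply, Matrix.mul_apply, Fin.sum_univ_two, Fin.sum_univ_two] at h'
      simp [mt_dg] at h'
      have ha0 : mt Y 0 0 = 0 := (mul_eq_zero.1 (show (((a⁻¹ : Fˣ) : F) - (a : F)) * mt Y 0 0 = 0 by
        rw [Units.val_inv_eq_inv_val]; linear_combination -h' + (a : F)⁻¹ * h)).resolve_left hne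
      exact ⟨ha0, by linear_combination h - ha0⟩
    · rw [conj_entry] at h1 h2
      simp [mt_dg] at h1
      have hd := det_mt s
      rw [Matrix.det_fin_two] at hd
      have : mt s 0 0 * mt s 1 0 * (((a⁻¹ : Fˣ) : F) - (a : F)) = 0 := by
        rw [Units.val_inv_eq_inv_val]; linear_combination h1
      rcases mul_eq_zero.1 ((mul_eq_zero.1 this).resolve_right hne) with e | e
      · right; left
        have hu : mt s 1 0 ≠ 0 := fun e' => by simp [e, e'] at hd
        rw [e] at h2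
        simpa [hu] using h2
      · left
        have hp0 : mt s 0 0 ≠ 0 := fun e' => by simp [e, e'] at hd
        rw [e] at h2
        simpa [hp0] using h2
  · rintro (h | h | ⟨h0, h1⟩)
    · exact Or.inr ⟨1, by rw [conj_entry]; simp [mt_dg, mt_one], by rw [conj_entry]; simp [mt_one, h]⟩
    · obtain ⟨w, hw0, hw1, -⟩ := exists_of_low (one_ne_zero (α := F)) 0 0
      refine Or.inr ⟨w, ?_, ?_⟩
      · rw [conj_entry]; simp [mt_dg, hw0, hw1]
      · rw [conj_entry]; simp [h, hw0, hw1]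
    · refine Or.inl (Or.inr ⟨by rw [Matrix.trace_fin_two, h0, h1, add_zero], ?_⟩)
      rw [mt_mul, Matrix.trace_fin_two, Matrix.mul_apply, Matrix.mul_apply, Fin.sum_univ_two, Fin.sum_univ_two]
      simp [mt_dg, h0, h1]

omit [CharP F 3] in
theorem ncard_split_set :
    {Y : SL F | mt Y 1 0 = 0 ∨ mt Y 0 1 = 0 ∨ (mt Y 0 0 = 0 ∧ mt Y 1 1 = 0)}.ncard =
      2 * Fintype.card F * (Fintype.card F - 1) := by
  classical
  have he : {Y : SL F | mt Y 1 0 = 0 ∨ mt Y 0 1 = 0 ∨ (mt Y 0 0 = 0 ∧ mt Y 1 1 = 0)} =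
      {Y : SL F | mt Y 1 0 = 0} ∪
      ({Y : SL F | mt Y 1 0 ≠ 0 ∧ mt Y 0 1 = 0} ∪
        {Y : SL F | mt Y 0 0 = 0 ∧ mt Y 1 1 = 0}) := by
    ext Y
    simp only [Set.mem_setOf_eq, Set.mem_union]
    tauto
  have hdetne : ∀ Y : SL F, mt Y 0 0 = 0 → mt Y 1 0 ≠ 0 ∧ mt Y 0 1 ≠ 0 := fun Y h => by
    have hd := det_mt Y
    rw [Matrix.det_fin_two, h] at hd
    exact ⟨fun e => by simp [e] at hd, fun e => by simp [e] at hd⟩
  have c2 : {Y : SL F | mt Y 1 0 ≠ 0 ∧ mt Y 0 1 = 0}.ncard = (Fintype.card F - 1) * (Fintype.card F - 1) := by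
    choose f h0 h1 h2 using fun z : Fˣ × Fˣ => exists_of_low (F := F) z.1.ne_zero (z.2 : F) ((z.2 : F)⁻¹)
    have h3 : ∀ z, mt (f z) 0 1 = 0 := fun z => by
      have hd := det_mt (f z)
      rw [Matrix.det_fin_two, h0, h1, h2] at hd
      simpa using hd
    rw [← Nat.card_coe_set_eq, ← Nat.card_eq_of_bijective
      (fun z : Fˣ × Fˣ => (⟨f z, by simp [h1], h3 z⟩ : {Y : SL F | mt Y 1 0 ≠ 0 ∧ mt Y 0 1 = 0}))
      ⟨fun z w h => ?_, fun Y => ?_⟩]
    · rw [Nat.card_prod, Nat.card_units, Nat.card_eq_fintype_card]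
    · have e := congrArg Subtype.val h
      refine Prod.ext (Units.ext ?_) (Units.ext ?_)
      · rw [← h1 z, ← h1 w]; exact congrArg (fun Y : SL F => mt Y 1 0) e
      · rw [← h0 z, ← h0 w]; exact congrArg (fun Y : SL F => mt Y 0 0) e
    · have hd := det_mt Y.1
      rw [Matrix.det_fin_two, Y.2.2] at hd
      simp only [zero_mul, sub_zero] at hd
      refine ⟨(Units.mk0 _ Y.2.1, Units.mk0 _ (left_ne_zero_of_mul (hd.trans_ne one_ne_zero))),
        Subtype.ext (ext_of_low ?_ (h0 _) (h1 _) ?_)⟩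
      · rw [h1]; exact Y.2.1
      · rw [h2]
        exact inv_eq_of_mul_eq_one_right hd
  have c3 : {Y : SL F | mt Y 0 0 = 0 ∧ mt Y 1 1 = 0}.ncard = Fintype.card F - 1 := by
    choose f h0 h1 h2 using fun z : Fˣ => exists_of_low (F := F) z.ne_zero 0 0
    rw [← Nat.card_coe_set_eq, ← Nat.card_eq_of_bijective
      (fun z : Fˣ => (⟨f z, h0 z, h2 z⟩ : {Y : SL F | mt Y 0 0 = 0 ∧ mt Y 1 1 = 0}))
      ⟨fun z w h => ?_, fun Y => ?_⟩]
    · rw [Nat.card_units, Nat.card_eq_fintype_card]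
    · refine Units.ext ?_
      rw [← h1 z, ← h1 w]; exact congrArg (fun Y : {Y : SL F | mt Y 0 0 = 0 ∧ mt Y 1 1 = 0} => mt Y.1 1 0) h
    · refine ⟨Units.mk0 _ (hdetne Y.1 Y.2.1).1, Subtype.ext (ext_of_low ?_ ?_ (h1 _) ?_)⟩
      · rw [h1]; exact (hdetne Y.1 Y.2.1).1
      · rw [h0, Y.2.1]
      · rw [h2, Y.2.2]
  rw [he, Set.ncard_union_eq ?_, Set.ncard_union_eq ?_, ncard_upper, c2, c3]
  · obtain ⟨n, hn⟩ : ∃ n, Fintype.card F = n + 1 := ⟨Fintype.card F - 1, by have := Fintype.card_pos (α := F); omega⟩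
    rw [hn, Nat.add_sub_cancel]
    ring
  · refine Set.disjoint_left.2 fun Y h1 h2 => ?_
    exact (hdetne Y h2.1).2 h1.2
  · refine Set.disjoint_left.2 fun Y h1 h2 => ?_
    rcases h2 with h2 | h2
    · exact h2.1 h1
    · exact (hdetne Y h2.1).1 h1

theorem sol3_ell {X : SL F} (hX : Ell X) (Y : SL F) :
    Sol3 X Y ↔ X * Y = Y * X ∨ TC (mt X).trace (mt Y).trace (mt (X * Y)).trace := by
  refine ⟨fun h => h.resolve_right ?_, Or.inl⟩
  rintro ⟨s, h1, -⟩
  obtain ⟨a, b, hab⟩ := exists_bor_of_apply h1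
  exact not_ell_bor a b (Ell.of_isConj hX (isConj_iff.2 ⟨s⁻¹, by rw [inv_inv, hab]⟩))

theorem ncard_sol3_ell {X : SL F} (hX : Ell X) (hs0 : (mt X).trace ≠ 0) (hs1 : (mt X).trace ^ 2 ≠ 1) :
    {Y : SL F | Sol3 X Y}.ncard = 2 * (Fintype.card F + 1) := by
  have he : {Y : SL F | Sol3 X Y} = (tor X : Set (SL F)) ∪ {Y : SL F | Y * X * Y⁻¹ = X⁻¹} := by
    ext Y
    simp only [Set.mem_setOf_eq, Set.mem_union, sol3_ell hX, tc_generic hs0 hs1, SetLike.mem_coe,
      Subgroup.mem_centralizer_singleton_iff]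
    refine or_congr ⟨Eq.symm, Eq.symm⟩ ?_
    constructor
    · rintro ⟨hu, hv⟩
      have e1 : mt Y * mt Y = -1 := by rw [sq_eq, det_mt, hu, zero_smul, one_smul, zero_sub]
      have e2 : mt (X * Y) * mt (X * Y) = -1 := by rw [sq_eq, det_mt, hv, zero_smul, one_smul, zero_sub]
      have hYi : mt Y⁻¹ = -mt Y := by rw [mt_inv, hu, zero_smul, zero_sub]
      have hXi : mt X⁻¹ * mt X = 1 := by rw [← mt_mul, inv_mul_cancel, mt_one]
      refine mt_injective ?_
      calc mt (Y * X * Y⁻¹) = -(mt Y * mt X * mt Y) := by rw [mt_mul, mt_mul, hYi, mul_neg]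
        _ = -(mt X⁻¹ * mt X * (mt Y * mt X * mt Y)) := by rw [hXi, Matrix.one_mul]
        _ = -(mt X⁻¹ * (mt (X * Y) * mt (X * Y))) := by simp only [mt_mul, Matrix.mul_assoc]
        _ = mt X⁻¹ := by rw [e2, mul_neg, Matrix.mul_one, neg_neg]
    · intro h
      have key : ∀ Z : SL F, Z * X * Z⁻¹ = X⁻¹ → (mt Z).trace = 0 := by
        intro Z hZ
        by_contra ht
        have hc : (Z * Z) * X = X * (Z * Z) := by
          have e1 : Z * X = X⁻¹ * Z := mul_inv_eq_iff_eq_mul.1 hZ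
          have e2 : Z * X⁻¹ = X * Z := by
            have := congrArg (·⁻¹) hZ
            simp at this
            exact mul_inv_eq_iff_eq_mul.1 (by simpa [mul_assoc] using this)
          rw [mul_assoc, e1, ← mul_assoc, e2, mul_assoc]
        have hc2 : Z * X = X * Z := by
          rw [commute_iff_mt] at hc ⊢
          rw [mt_mul, sq_eq, Matrix.sub_mul, Matrix.mul_sub, det_mt, one_smul, Matrix.one_mul, Matrix.mul_one,
            sub_left_inj, Matrix.smul_mul, Matrix.mul_smul] at hc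
          exact smul_right_injective _ ht hc
        exact Ell.inv_ne_self hX (by rw [← hZ, hc2, mul_inv_cancel_right])
      refine ⟨key Y h, key (X * Y) ?_⟩
      calc X * Y * X * (X * Y)⁻¹ = X * (Y * X * Y⁻¹) * X⁻¹ := by group
        _ = X⁻¹ := by rw [h]; group
  have ht : (mt X).trace = (mt X⁻¹).trace := by
    rw [mt_inv]
    simp [Matrix.trace_fin_two]
    ring
  have hnc : X⁻¹ ∉ Subgroup.center (SL F) := fun h => Ell.not_mem_center hX (by simpa using inv_mem h)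
  obtain ⟨w, hw⟩ := isConj_iff.1 (Ell.isConj_of_trace hX hnc ht)
  have he2 : {Y : SL F | Y * X * Y⁻¹ = X⁻¹} = (fun z => w * z) '' (tor X : Set (SL F)) := by
    ext Y
    simp only [Set.mem_setOf_eq, Set.mem_image, SetLike.mem_coe, Subgroup.mem_centralizer_singleton_iff]
    constructor
    · intro h
      refine ⟨w⁻¹ * Y, ?_, by group⟩
      calc w⁻¹ * Y * X = w⁻¹ * (Y * X * Y⁻¹) * Y := by group
        _ = w⁻¹ * (w * X * w⁻¹) * Y := by rw [h, hw]
        _ = X * (w⁻¹ * Y) := by group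
    · rintro ⟨z, hz, rfl⟩
      calc w * z * X * (w * z)⁻¹ = w * (z * X) * z⁻¹ * w⁻¹ := by group
        _ = w * (X * z) * z⁻¹ * w⁻¹ := by rw [hz]
        _ = X⁻¹ := by rw [← hw]; group
  have hc : (tor X : Set (SL F)).ncard = Fintype.card F + 1 := by
    rw [← Nat.card_coe_set_eq]; exact card_tor hX
  rw [he, Set.ncard_union_eq ?_, hc, he2, Set.ncard_image_of_injective _ (mul_right_injective w), hc]
  · ring
  · refine Set.disjoint_left.2 fun Y h1 h2 => ?_
    have h3 : Y * X = X * Y := Subgroup.mem_centralizer_singleton_iff.1 h1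
    refine Ell.inv_ne_self hX ?_
    rw [← show Y * X * Y⁻¹ = X⁻¹ from h2, h3, mul_inv_cancel_right]

end CfsgLib.Solubilizer
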