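import Cfsg.Agent.Solubilizer.ThreeCount

/-!
The solvable partners of an involution of PSL(2,3^p).
-/

set_option autoImplicit false

namespace CfsgLib.Solubilizer

open CfsgLib.Dickson CfsgLib.SL2C Matrix

variable {F : Type*} [Field F] [Fintype F] [CharP F 3]

variable (F) in
/-- The representative `(0 -1; 1 0)`. -/
def quarter : SL F := ⟨!![0, -1; 1, 0], by simp [Matrix.det_fin_two_of]⟩

omit [Fintype F] [CharP F 3] in
theorem mt_quarter : mt (quarter F) = !![0, -1; 1, 0] := rfl

omit [CharP F 3] in
theorem ell_quarter (hns : ¬ IsSquare (-1 : F)) : Ell (quarter F) := by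
  intro c v hv h
  rw [mt_quarter] at h
  have h0 := congrFun h 0
  have h1 := congrFun h 1
  simp [Matrix.mulVec, dotProduct, Fin.sum_univ_two] at h0 h1
  have hv1 : v 1 ≠ 0 := fun e => hv (by
    ext i
    fin_cases i
    · simpa [e] using h1
    · simpa using e)
  refine hns ⟨c, ?_⟩
  exact mul_right_cancel₀ hv1 (by linear_combination h0 + c * h1)

omit [Fintype F] [CharP F 3] in
theorem norm_zero (hns : ¬ IsSquare (-1 : F)) {x y : F} (h : x ^ 2 + y ^ 2 = 0) : x = 0 ∧ y = 0 := by
  by_cases hy : y = 0
  · exact ⟨by simpa [hy] using h, hy⟩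
  · exact absurd ⟨x / y, by field_simp; linear_combination -h⟩ hns

omit [CharP F 3] in
theorem card_norm (hns : ¬ IsSquare (-1 : F)) {k : F} (hk : k ≠ 0) :
    Nat.card {z : F × F // z.1 ^ 2 + z.2 ^ 2 = k} = Fintype.card F + 1 := by
  classical
  let n : F × F → F := fun z => z.1 ^ 2 + z.2 ^ 2
  have hsame : ∀ l : F, l ≠ 0 → (Finset.univ.filter fun z => n z = l).card = (Finset.univ.filter fun z => n z = 1).card := by
    intro l hl
    obtain ⟨a, b, hab⟩ := NoEig.exists_det_eq (ell_quarter hns) l
    rw [det_smul_add_smul, det_mt, mt_quarter] at hab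
    simp [Matrix.trace_fin_two] at hab
    refine (Finset.card_nbij' (fun z => (a * z.1 - b * z.2, b * z.1 + a * z.2))
      (fun z => ((a * z.1 + b * z.2) / l, (a * z.2 - b * z.1) / l)) ?_ ?_ ?_ ?_).symm
    · intro z hz
      simp [n] at hz ⊢
      linear_combination (a ^ 2 + b ^ 2) * hz + hab
    · intro z hz
      simp [n] at hz ⊢
      field_simp
      linear_combination l * hab + (a ^ 2 + b ^ 2) * hz
    · intro z _
      ext
      · show (a * (a * z.1 - b * z.2) + b * (b * z.1 + a * z.2)) / l = z.1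
        field_simp; linear_combination z.1 * hab
      · show (a * (b * z.1 + a * z.2) - b * (a * z.1 - b * z.2)) / l = z.2
        field_simp; linear_combination z.2 * hab
    · intro z _
      ext
      · show a * ((a * z.1 + b * z.2) / l) - b * ((a * z.2 - b * z.1) / l) = z.1
        field_simp; linear_combination z.1 * hab
      · show b * ((a * z.1 + b * z.2) / l) + a * ((a * z.2 - b * z.1) / l) = z.2
        field_simp; linear_combination z.2 * hab
  have hzero : (Finset.univ.filter fun z => n z = 0).card = 1 := by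
    rw [Finset.card_eq_one]
    refine ⟨(0, 0), ?_⟩
    ext ⟨x, y⟩
    simp only [Finset.mem_filter, Finset.mem_univ, true_and, Finset.mem_singleton, Prod.mk.injEq, n]
    exact ⟨norm_zero hns, fun ⟨h1, h2⟩ => by rw [h1, h2]; ring⟩
  have htot := Finset.card_eq_sum_card_fiberwise (f := n) (s := (Finset.univ : Finset (F × F))) (t := Finset.univ)
    (fun z _ => Finset.mem_univ _)
  rw [← Finset.add_sum_erase _ _ (Finset.mem_univ (0 : F)), hzero,
    Finset.sum_congr rfl (fun l hl => hsame l (Finset.ne_of_mem_erase hl)), Finset.sum_const,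
    Finset.card_erase_of_mem (Finset.mem_univ _), Finset.card_univ, Fintype.card_prod, Finset.card_univ,
    smul_eq_mul] at htot
  rw [Nat.card_eq_fintype_card, Fintype.card_subtype]
  refine (hsame k hk).trans ?_
  generalize (Finset.univ.filter fun z => n z = 1).card = N at htot
  obtain ⟨m, hm⟩ : ∃ m, Fintype.card F = m + 2 :=
    ⟨Fintype.card F - 2, by have := Fintype.one_lt_card (α := F); omega⟩
  rw [hm, show m + 2 - 1 = m + 1 from rfl] at htot
  rw [hm]
  exact Nat.eq_of_mul_eq_mul_left (show 0 < m + 1 by omega) (by ring_nf at htot ⊢; omega)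

/-- The condition on (trace Y, trace (X Y)) for an involution X. -/
def Pred (z : F × F) : Prop := z.1 = 0 ∨ z.2 = 0 ∨ (z.1 ^ 2 = 1 ∧ z.2 ^ 2 = 1)

theorem sol3_quarter (hns : ¬ IsSquare (-1 : F)) (Y : SL F) : Sol3 (quarter F) Y ↔
    Pred (mt Y 0 0 + mt Y 1 1, mt Y 0 1 - mt Y 1 0) ∨ (mt Y 0 0 = mt Y 1 1 ∧ mt Y 0 1 + mt Y 1 0 = 0) := by
  have hs : (mt (quarter F)).trace = 0 := by simp [mt_quarter, Matrix.trace_fin_two]
  have hv : (mt (quarter F * Y)).trace = mt Y 0 1 - mt Y 1 0 := by
    rw [mt_mul, Matrix.trace_fin_two, Matrix.mul_apply, Matrix.mul_apply, Fin.sum_univ_two, Fin.sum_univ_two]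
    simp [mt_quarter]; ring
  have hc : quarter F * Y = Y * quarter F ↔ (mt Y 0 0 = mt Y 1 1 ∧ mt Y 0 1 + mt Y 1 0 = 0) := by
    rw [commute_iff_mt, mt_quarter]
    constructor
    · intro h
      have h00 := congrFun (congrFun h 0) 0
      have h10 := congrFun (congrFun h 1) 0
      rw [Matrix.mul_apply, Matrix.mul_apply, Fin.sum_univ_two, Fin.sum_univ_two] at h00 h10
      simp at h00 h10
      exact ⟨h10, by linear_combination -h00⟩
    · rintro ⟨h1, h2⟩
      ext i j
      rw [Matrix.mul_apply, Matrix.mul_apply, Fin.sum_univ_two, Fin.sum_univ_two]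
      fin_cases i <;> fin_cases j <;> simp <;>
        first | linear_combination h1 | linear_combination -h1 | linear_combination h2 | linear_combination -h2
  rw [sol3_ell (ell_quarter hns), hc, or_comm, TC, hs, hv, Matrix.trace_fin_two]
  refine or_congr_left ?_
  unfold Pred
  simp only [zero_ne_one, true_and, ne_eq, OfNat.ofNat_ne_zero, not_false_eq_true, zero_pow, false_and, and_false,
    or_false]
  tauto

theorem ncard_sol3_quarter (hns : ¬ IsSquare (-1 : F)) :
    {Y : SL F | Sol3 (quarter F) Y}.ncard = 2 * Fintype.card F * (Fintype.card F + 1) := by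
  classical
  have three := three_zero (F := F)
  have h12 : (1 : F) ≠ -1 := fun h => two_ne (F := F) (by linear_combination h)
  let Fib : F × F → Type _ := fun z => {w : F × F // w.1 ^ 2 + w.2 ^ 2 = z.1 ^ 2 + z.2 ^ 2 - 1 ∧ (Pred z ∨ w = 0)}
  haveI : ∀ z, Fintype (Fib z) := fun z => Fintype.ofFinite _
  let toY : (Σ z, Fib z) → SL F := fun t => ⟨!![-(t.1.1 + t.2.1.1), -(t.1.2 + t.2.1.2);
      t.1.2 - t.2.1.2, -(t.1.1 - t.2.1.1)], by
    rw [Matrix.det_fin_two_of]; linear_combination -t.2.2.1⟩
  have hmem : ∀ t, toY t ∈ {Y : SL F | Sol3 (quarter F) Y} := by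
    intro t
    refine (sol3_quarter hns _).2 ?_
    simp only [toY, mt_mk]
    simp
    rcases t.2.2.2 with h | h
    · left
      convert h using 1
      refine Prod.ext ?_ ?_
      · linear_combination -t.1.1 * three
      · linear_combination -t.1.2 * three
    · right
      have e1 : t.2.1.1 = 0 := congrArg Prod.fst h
      have e2 : t.2.1.2 = 0 := congrArg Prod.snd h
      rw [e1, e2]
      exact ⟨by ring, by ring⟩
  have hbij : Function.Bijective (fun t => (⟨toY t, hmem t⟩ : {Y : SL F | Sol3 (quarter F) Y})) := by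
    constructor
    · rintro ⟨⟨s, u⟩, ⟨⟨P, Q⟩, hw⟩⟩ ⟨⟨s', u'⟩, ⟨⟨P', Q'⟩, hw'⟩⟩ h
      have e := congrArg (fun Y : {Y : SL F | Sol3 (quarter F) Y} => mt Y.1) h
      have e00 := congrFun (congrFun e 0) 0
      have e01 := congrFun (congrFun e 0) 1
      have e10 := congrFun (congrFun e 1) 0
      have e11 := congrFun (congrFun e 1) 1
      simp [toY] at e00 e01 e10 e11
      obtain rfl : s = s' := by linear_combination e00 + e11 + (s - s') * three
      obtain rfl : u = u' := by linear_combination e01 - e10 + (u - u') * three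
      obtain rfl : P = P' := by linear_combination -e00
      obtain rfl : Q = Q' := by linear_combination -e01
      rfl
    · rintro ⟨Y, hY⟩
      have hd := det_mt Y
      rw [Matrix.det_fin_two] at hd
      refine ⟨⟨(mt Y 0 0 + mt Y 1 1, mt Y 0 1 - mt Y 1 0), ⟨(mt Y 0 0 - mt Y 1 1, mt Y 0 1 + mt Y 1 0), ?_, ?_⟩⟩,
        Subtype.ext (mt_injective ?_)⟩
      · linear_combination (-4 : F) * hd - three
      · refine ((sol3_quarter hns Y).1 hY).imp_right fun h => ?_
        exact Prod.ext (sub_eq_zero.2 h.1) h.2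
      · ext i j
        fin_cases i <;> fin_cases j <;> simp [toY]
        · linear_combination -(mt Y 0 0) * three
        · linear_combination -(mt Y 0 1) * three
        · linear_combination -(mt Y 1 0) * three
        · linear_combination -(mt Y 1 1) * three
  rw [← Nat.card_coe_set_eq, ← Nat.card_eq_of_bijective _ hbij, Nat.card_sigma]
  have hfib : ∀ z : F × F, Nat.card (Fib z) = (if z.1 ^ 2 + z.2 ^ 2 = 1 then 1 else 0) +
      (if Pred z ∧ ¬ z.1 ^ 2 + z.2 ^ 2 = 1 then Fintype.card F + 1 else 0) := by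
    intro z
    by_cases h1 : z.1 ^ 2 + z.2 ^ 2 = 1
    · rw [if_pos h1, if_neg (fun h => h.2 h1)]
      haveI : Unique (Fib z) := { default := ⟨0, by simp [h1], Or.inr rfl⟩, uniq := fun w => Subtype.ext (by
        have hw : w.1.1 ^ 2 + w.1.2 ^ 2 = 0 := by linear_combination w.2.1 + h1
        obtain ⟨e1, e2⟩ := norm_zero hns hw
        exact Prod.ext e1 e2) }
      exact Nat.card_unique
    · rw [if_neg h1, zero_add]
      by_cases hP : Pred z
      · rw [if_pos ⟨hP, h1⟩, ← card_norm hns (sub_ne_zero.2 h1)]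
        exact Nat.card_congr (Equiv.subtypeEquivRight fun w => ⟨fun h => h.1, fun h => ⟨h, Or.inl hP⟩⟩)
      · rw [if_neg (fun h => hP h.1)]
        haveI : IsEmpty (Fib z) := ⟨fun w => by
          have h0 := w.2.2.resolve_left hP
          have hw := w.2.1
          rw [h0] at hw
          simp at hw
          exact h1 (by linear_combination -hw)⟩
        exact Nat.card_of_isEmpty
  rw [Finset.sum_congr rfl (fun z _ => hfib z), Finset.sum_add_distrib, ← Finset.sum_filter, ← Finset.sum_filter,
    Finset.sum_const, Finset.sum_const, smul_eq_mul, smul_eq_mul, mul_one]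
  have hcirc : (Finset.univ.filter fun z : F × F => z.1 ^ 2 + z.2 ^ 2 = 1).card = Fintype.card F + 1 := by
    rw [← card_norm hns one_ne_zero, Nat.card_eq_fintype_card, Fintype.card_subtype]
  have hpred : (Finset.univ.filter fun z : F × F => Pred z ∧ ¬ z.1 ^ 2 + z.2 ^ 2 = 1).card + 1 =
      2 * Fintype.card F := by
    have hsplit : (Finset.univ.filter fun z : F × F => Pred z ∧ ¬ z.1 ^ 2 + z.2 ^ 2 = 1) =
        (({0} : Finset F) ×ˢ (Finset.univ \ {1, -1})) ∪ ((Finset.univ \ {0, 1, -1}) ×ˢ ({0} : Finset F)) ∪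
          (({1, -1} : Finset F) ×ˢ {1, -1}) := by
      ext ⟨x, y⟩
      rw [Finset.mem_filter]
      simp only [Finset.mem_univ, true_and, Finset.mem_union, Finset.mem_product,
        Finset.mem_singleton, Finset.mem_sdiff, Finset.mem_insert, Pred, ← sq_eq_one_iff]
      constructor
      · rintro ⟨h | h | ⟨h, h'⟩, hne⟩
        · exact Or.inl (Or.inl ⟨h, fun e => hne (by rw [h, e]; ring)⟩)
        · by_cases hx : x = 0
          · exact Or.inl (Or.inl ⟨hx, fun e => hne (by rw [hx, e]; ring)⟩)
          · refine Or.inl (Or.inr ⟨fun e => ?_, h⟩)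
            rcases e with e | e
            · exact hx e
            · exact hne (by rw [h, e]; ring)
        · exact Or.inr ⟨h, h'⟩
      · rintro ((⟨rfl, h⟩ | ⟨h, rfl⟩) | ⟨h, h'⟩)
        · exact ⟨Or.inl rfl, fun e => h (by linear_combination e)⟩
        · exact ⟨Or.inr (Or.inl rfl), fun e => h (Or.inr (by linear_combination e))⟩
        · exact ⟨Or.inr (Or.inr ⟨h, h'⟩), fun e => one_ne_zero (α := F) (by linear_combination e - h - h')⟩
    have c2 : ({1, -1} : Finset F).card = 2 := Finset.card_pair h12
    have c3 : ({0, 1, -1} : Finset F).card = 3 := by simp [h12]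
    have hq3 : 3 ≤ Fintype.card F := c3 ▸ Finset.card_le_univ _
    rw [hsplit, Finset.card_union_of_disjoint, Finset.card_union_of_disjoint]
    · simp only [Finset.card_product, Finset.card_singleton, Finset.card_univ_diff, c2, c3]
      omega
    · refine Finset.disjoint_left.2 fun z h1 h2 => ?_
      simp only [Finset.mem_product, Finset.mem_singleton, Finset.mem_sdiff, Finset.mem_insert] at h1 h2
      exact h2.1.2 (Or.inl h1.1)
    · refine Finset.disjoint_left.2 fun z h1 h2 => ?_
      simp only [Finset.mem_union, Finset.mem_product, Finset.mem_singleton, Finset.mem_sdiff, Finset.mem_insert] at h1 h2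
      rcases h1 with ⟨h, -⟩ | ⟨-, h⟩
      · rcases h2.1 with e | e <;> simp [h] at e
      · rcases h2.2 with e | e <;> simp [h] at e
  rw [hcirc]
  generalize (Finset.univ.filter fun z : F × F => Pred z ∧ ¬ z.1 ^ 2 + z.2 ^ 2 = 1).card = N at hpred
  calc Fintype.card F + 1 + N * (Fintype.card F + 1) = (N + 1) * (Fintype.card F + 1) := by ring
    _ = _ := by rw [hpred]

end CfsgLib.Solubilizer
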