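import Cfsg.Agent.Solubilizer.Tetra
import Cfsg.Agent.Solubilizer.EvenCount

/-!
The solvable pairs of PSL(2,3^p) in terms of traces.
-/

set_option autoImplicit false

namespace CfsgLib.Solubilizer

open CfsgLib.Dickson CfsgLib.SL2C Matrix

variable {F : Type*} [Field F] [Fintype F] [CharP F 3]

omit [Fintype F] in
theorem three_zero : (3 : F) = 0 := by exact_mod_cast CharP.cast_eq_zero F 3

omit [Fintype F] in
theorem two_ne : (2 : F) ≠ 0 := fun h => one_ne_zero (α := F) (by linear_combination three_zero (F := F) - h)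

omit [CharP F 3] in
theorem center_cases {z : SL F} (hz : z ∈ Subgroup.center (SL F)) : z = 1 ∨ z = negOne F := by
  obtain ⟨e, he, rfl⟩ := exists_eq_bor_of_mem_center hz
  rcases sgn_cases (mem_sgn.2 he) with rfl | rfl
  · exact Or.inl bor_one_zero
  · exact Or.inr rfl

theorem trace_sq_of_central {z : SL F} (hz : z ∈ Subgroup.center (SL F)) : (mt z).trace ^ 2 = 1 := by
  rw [trace_sq_eq_four_of_central hz]
  linear_combination three_zero (F := F)

omit [CharP F 3] in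
theorem pm_sq_iff (Z : SL F) : pm Z * pm Z = 1 ↔ (mt Z).trace = 0 ∨ Z ∈ Subgroup.center (SL F) := by
  rw [← map_mul, pm_eq_one_iff, mem_center_iff_isScal, mem_center_iff_isScal, mt_mul, sq_eq, det_mt, one_smul]
  constructor
  · rintro ⟨c, hc⟩
    by_cases ht : (mt Z).trace = 0
    · exact Or.inl ht
    · refine Or.inr ⟨(c + 1) / (mt Z).trace, ?_⟩
      refine smul_right_injective _ ht ?_
      show (mt Z).trace • mt Z = (mt Z).trace • ((c + 1) / (mt Z).trace) • (1 : Matrix (Fin 2) (Fin 2) F)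
      rw [smul_smul, mul_div_cancel₀ _ ht, add_smul, one_smul, ← hc, sub_add_cancel]
  · rintro (ht | ⟨c, hc⟩)
    · exact ⟨-1, by rw [ht, zero_smul, zero_sub, neg_one_smul]⟩
    · exact ⟨(mt Z).trace * c - 1, by rw [sub_smul, one_smul, ← smul_smul, ← hc]⟩

theorem pm_cube_iff (Z : SL F) : pm Z * pm Z * pm Z = 1 ↔ (mt Z).trace ^ 2 = 1 := by
  rw [← map_mul, ← map_mul, pm_eq_one_iff]
  have hZ : mt (Z * Z * Z) = ((mt Z).trace ^ 2 - 1) • mt Z - (mt Z).trace • 1 := by
    rw [mt_mul, mt_mul, sq_eq, det_mt, one_smul, Matrix.sub_mul, Matrix.smul_mul, sq_eq, det_mt, one_smul,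
      Matrix.one_mul]
    module
  constructor
  · intro h
    by_contra hne
    obtain ⟨c, hc⟩ := mem_center_iff_isScal.1 h
    rw [hZ] at hc
    refine hne (trace_sq_of_central (mem_center_iff_isScal.2 ⟨(c + (mt Z).trace) / ((mt Z).trace ^ 2 - 1), ?_⟩))
    refine smul_right_injective _ (sub_ne_zero.2 hne) ?_
    show ((mt Z).trace ^ 2 - 1) • mt Z = ((mt Z).trace ^ 2 - 1) • _
    rw [smul_smul, mul_div_cancel₀ _ (sub_ne_zero.2 hne), add_smul, ← hc, sub_add_cancel]
  · intro ht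
    refine mem_center_iff_isScal.2 ⟨-(mt Z).trace, ?_⟩
    rw [hZ, ht, sub_self, zero_smul, zero_sub, neg_smul]

/-- The trace condition. -/
def TC (s u v : F) : Prop :=
  (s = 0 ∧ u = 0) ∨ (s = 0 ∧ v = 0) ∨ (u = 0 ∧ v = 0) ∨ (s = 0 ∧ u ^ 2 = 1 ∧ v ^ 2 = 1) ∨
    (u = 0 ∧ s ^ 2 = 1 ∧ v ^ 2 = 1) ∨ (s ^ 2 = 1 ∧ u ^ 2 = 1 ∧ (v = 0 ∨ s * u - v = 0))

theorem rel_iff (X Y : SL F) : (Rel (pm X) (pm Y) ∨ Rel3 (pm X) (pm Y)) ↔
    X * Y = Y * X ∨ TC (mt X).trace (mt Y).trace (mt (X * Y)).trace := by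
  have hinv : (mt (X⁻¹ * Y)).trace = (mt X).trace * (mt Y).trace - (mt (X * Y)).trace := by
    rw [mt_mul, mt_inv, mt_mul, Matrix.sub_mul, Matrix.smul_mul, Matrix.one_mul, Matrix.trace_sub,
      Matrix.trace_smul, smul_eq_mul]
  have hcY : Y ∈ Subgroup.center (SL F) → X * Y = Y * X := fun h => Subgroup.mem_center_iff.1 h X
  have hcX : X ∈ Subgroup.center (SL F) → X * Y = Y * X := fun h => (Subgroup.mem_center_iff.1 h Y).symm
  have hcXY : X * Y ∈ Subgroup.center (SL F) → X * Y = Y * X := fun h => by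
    have := Subgroup.mem_center_iff.1 h X
    rw [mul_assoc] at this
    exact mul_left_cancel this
  have hcXiY : X⁻¹ * Y ∈ Subgroup.center (SL F) → X * Y = Y * X := fun h => by
    have := Subgroup.mem_center_iff.1 h X
    rw [← mul_assoc, mul_inv_cancel, one_mul] at this
    calc X * Y = X * (X⁻¹ * Y * X) := by rw [← this]
      _ = Y * X := by group
  constructor
  · rintro ((h | ⟨h1, h2⟩ | ⟨h1, h2⟩ | ⟨h1, h2⟩) | (⟨h1, h2, h3⟩ | ⟨h1, h2, h3⟩ | ⟨h1, h2, h3⟩))
    · by_cases hc : X * Y = Y * X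
      · exact Or.inl hc
      refine Or.inr (Or.inl ?_)
      have he : pm (X * Y * (Y * X)⁻¹) = 1 := by rw [map_mul, map_inv, map_mul, map_mul, h.eq, mul_inv_cancel]
      rcases center_cases (pm_eq_one_iff.1 he) with h' | h'
      · exact absurd (mul_inv_eq_one.1 h') hc
      have e : X * Y = negOne F * (Y * X) := mul_inv_eq_iff_eq_mul.1 h'
      have hz := Subgroup.mem_center_iff.1 (negOne_mem_center (F := F))
      have e1 : (mt X).trace = -(mt X).trace := by
        have := trace_eq_of_isConj (g := negOne F * X) (h := X) (isConj_iff.2 ⟨Y, by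
          calc Y * (negOne F * X) * Y⁻¹ = (Y * negOne F) * X * Y⁻¹ := by group
            _ = (negOne F * (Y * X)) * Y⁻¹ := by rw [hz Y]; group
            _ = X := by rw [← e]; group⟩)
        rw [mt_mul, mt_negOne, neg_one_mul, Matrix.trace_neg] at this
        exact this.symm
      have e2 : (mt Y).trace = -(mt Y).trace := by
        have := trace_eq_of_isConj (g := Y) (h := negOne F * Y) (isConj_iff.2 ⟨X, by rw [e]; group⟩)
        rw [mt_mul, mt_negOne, neg_one_mul, Matrix.trace_neg] at this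
        exact this
      exact ⟨(mul_eq_zero.1 (show (2 : F) * (mt X).trace = 0 by linear_combination e1)).resolve_left two_ne,
        (mul_eq_zero.1 (show (2 : F) * (mt Y).trace = 0 by linear_combination e2)).resolve_left two_ne⟩
    · rcases (pm_sq_iff X).1 h1 with e1 | e1
      · rcases (pm_sq_iff Y).1 h2 with e2 | e2
        · exact Or.inr (Or.inl ⟨e1, e2⟩)
        · exact Or.inl (hcY e2)
      · exact Or.inl (hcX e1)
    · rw [← map_mul] at h2
      rcases (pm_sq_iff X).1 h1 with e1 | e1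
      · rcases (pm_sq_iff _).1 h2 with e2 | e2
        · exact Or.inr (Or.inr (Or.inl ⟨e1, e2⟩))
        · exact Or.inl (hcXY e2)
      · exact Or.inl (hcX e1)
    · rw [← map_mul] at h2
      rcases (pm_sq_iff Y).1 h1 with e1 | e1
      · rcases (pm_sq_iff _).1 h2 with e2 | e2
        · exact Or.inr (Or.inr (Or.inr (Or.inl ⟨e1, e2⟩)))
        · exact Or.inl (hcXY e2)
      · exact Or.inl (hcY e1)
    · rw [← map_mul] at h3
      rcases (pm_sq_iff X).1 h1 with e1 | e1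
      · exact Or.inr (Or.inr (Or.inr (Or.inr (Or.inl ⟨e1, (pm_cube_iff Y).1 h2, (pm_cube_iff _).1 h3⟩))))
      · exact Or.inl (hcX e1)
    · rw [← map_mul] at h3
      rcases (pm_sq_iff Y).1 h1 with e1 | e1
      · exact Or.inr (Or.inr (Or.inr (Or.inr (Or.inr (Or.inl ⟨e1, (pm_cube_iff X).1 h2, (pm_cube_iff _).1 h3⟩)))))
      · exact Or.inl (hcY e1)
    · rw [← map_inv, ← map_mul, ← map_mul] at h3
      refine (h3.imp (pm_sq_iff _).1 (pm_sq_iff _).1).elim ?_ ?_
      · rintro (e | e)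
        · exact Or.inr (Or.inr (Or.inr (Or.inr (Or.inr (Or.inr
            ⟨(pm_cube_iff X).1 h1, (pm_cube_iff Y).1 h2, Or.inl e⟩)))))
        · exact Or.inl (hcXY e)
      · rintro (e | e)
        · exact Or.inr (Or.inr (Or.inr (Or.inr (Or.inr (Or.inr
            ⟨(pm_cube_iff X).1 h1, (pm_cube_iff Y).1 h2, Or.inr (hinv ▸ e)⟩)))))
        · exact Or.inl (hcXiY e)
  · have s2 : ∀ Z : SL F, (mt Z).trace = 0 → pm Z * pm Z = 1 := fun Z h => (pm_sq_iff Z).2 (Or.inl h)
    rintro (h | ⟨h1, h2⟩ | ⟨h1, h2⟩ | ⟨h1, h2⟩ | ⟨h1, h2, h3⟩ | ⟨h1, h2, h3⟩ | ⟨h1, h2, h3⟩)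
    · exact Or.inl (Or.inl (show Commute (pm X) (pm Y) from (show Commute X Y from h).map pm))
    · exact Or.inl (Or.inr (Or.inl ⟨s2 _ h1, s2 _ h2⟩))
    · exact Or.inl (Or.inr (Or.inr (Or.inl ⟨s2 _ h1, by rw [← map_mul]; exact s2 _ h2⟩)))
    · exact Or.inl (Or.inr (Or.inr (Or.inr ⟨s2 _ h1, by rw [← map_mul]; exact s2 _ h2⟩)))
    · exact Or.inr (Or.inl ⟨s2 _ h1, (pm_cube_iff Y).2 h2, by rw [← map_mul]; exact (pm_cube_iff _).2 h3⟩)
    · exact Or.inr (Or.inr (Or.inl ⟨s2 _ h1, (pm_cube_iff X).2 h2, by rw [← map_mul]; exact (pm_cube_iff _).2 h3⟩))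
    · refine Or.inr (Or.inr (Or.inr ⟨(pm_cube_iff X).2 h1, (pm_cube_iff Y).2 h2, ?_⟩))
      rw [← map_inv, ← map_mul, ← map_mul]
      exact h3.imp (s2 _) fun h => s2 _ (hinv ▸ h)

end CfsgLib.Solubilizer
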